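import Cfsg.Agent.H847.Avg
import Cfsg.Agent.CoOneType.CoOneE
import Cfsg.Agent.SporadicA.GolayCount
import Cfsg.Agent.H847.Co1Tab

/-!
# Representations of `Co1` of degree less than 276 (helper847)

`trivial_of_lt` : a complex representation of `Co1` of degree `< 276` is trivial: the multiplicities `m₀, m₂, m₄` of
the characters of `2^11` belonging to the empty set, a duad and a tetrad satisfy
`m₀ + 276 m₂ + 1771 m₄ =` degree.
-/

set_option autoImplicit false

namespace Cfsg.Agent.H847.Co1Small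

open Module Cfsg Cfsg.Agent.H847.Avg
open Cfsg.Agent.SporadicA.GolayCount Cfsg.Agent.H847.Co1Tab
open Cfsg.Agent.SporadicA.Co0Mono (signCo0 signCo0_add signCo0_zero)
open Cfsg.Agent.SporadicA.Co1Simple (allOne)
open Cfsg.Agent.CoOneType.CoOneE (pr isConj_of_wt pr_sign_add_allOne pr_sign_eq_one_iff isConj_octad_iff
  isConj_dodecad_iff wordOf wt_wordOf sup_wordOf)
open Cfsg.Agent.CoOneType.SignFacts (wt sup wt_cases wt_add_allOne)

/-- the sign of a residue modulo two -/
def sg (x : ZMod 2) : ℂ := if x = 0 then 1 else -1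

theorem sg_zero : sg 0 = 1 := if_pos rfl

theorem sg_one : sg 1 = -1 := if_neg (by decide)

theorem zcases (x : ZMod 2) : x = 0 ∨ x = 1 := by revert x; decide

theorem sg_add (x y : ZMod 2) : sg (x + y) = sg x * sg y := by
  rcases zcases x with rfl | rfl <;> rcases zcases y with rfl | rfl
  · rw [add_zero, sg_zero, one_mul]
  · rw [zero_add, sg_zero, one_mul]
  · rw [add_zero, sg_zero, mul_one]
  · rw [show (1 : ZMod 2) + 1 = 0 from by decide, sg_zero, sg_one]; norm_num

theorem sg_sq (x : ZMod 2) : sg x * sg x = 1 := by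
  rcases zcases x with rfl | rfl
  · rw [sg_zero, one_mul]
  · rw [sg_one]; norm_num

/-! ### sums over the code -/

/-- sum over a list by classes -/
theorem list_sum (l : List ℕ) (N : Finset ℕ) (pc : ℕ → ℕ) (ev : ℕ → Bool) (T : ℕ → ℂ) (h : ∀ m ∈ l, pc m ∈ N) :
    (l.map fun m => (if ev m then (1 : ℂ) else -1) * T (pc m)).sum =
      ∑ n ∈ N, (((l.countP fun m => pc m == n && ev m : ℕ) : ℂ) - ((l.countP fun m => pc m == n && !ev m : ℕ) : ℂ)) * T n := by
  induction l with
  | nil => simp
  | cons m l ih =>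
    have h1 : ∀ k ∈ l, pc k ∈ N := fun k hk => h k (List.mem_cons_of_mem _ hk)
    rw [List.map_cons, List.sum_cons, ih h1]
    have h2 : (if ev m then (1 : ℂ) else -1) * T (pc m) =
        ∑ n ∈ N, (if pc m = n then (if ev m then (1 : ℂ) else -1) * T n else 0) := by
      rw [Finset.sum_ite_eq, if_pos (h m List.mem_cons_self)]
    rw [h2, ← Finset.sum_add_distrib]
    refine Finset.sum_congr rfl fun n _ => ?_
    rw [List.countP_cons, List.countP_cons]
    by_cases hn : pc m = n
    · rw [if_pos hn]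
      have hb : (pc m == n) = true := by rw [beq_iff_eq]; exact hn
      rw [hb]
      cases ev m
      · simp only [Bool.and_false, Bool.not_false, Bool.and_true, if_true, Bool.false_eq_true, if_false]
        push_cast; ring
      · simp only [Bool.and_false, Bool.not_true, Bool.and_true, if_true, Bool.false_eq_true, if_false]
        push_cast; ring
    · rw [if_neg hn]
      have hb : (pc m == n) = false := by rw [beq_eq_false_iff_ne]; exact hn
      rw [hb]
      simp

theorem nodup_L : L.Nodup := (sortedB_pairwise _ gen_sorted).imp (fun h => ne_of_lt h)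

theorem lt_of_mem {m : ℕ} (h : m ∈ L) : m < 2 ^ 24 := by
  have := List.all_eq_true.1 gen_lt m h
  simpa using this

theorem sum_code [Fintype golayCode] (H : (GolayPt → ZMod 2) → ℂ) :
    ∑ c : golayCode, H (c : GolayPt → ZMod 2) = (L.map fun m => H (word m)).sum := by
  rw [← List.sum_toFinset _ nodup_L]
  symm
  refine Finset.sum_bij (fun m hm => (⟨word m, (mem_golayCode_iff _).2 ⟨m, List.mem_toFinset.1 hm, rfl⟩⟩ : golayCode))
    (fun _ _ => Finset.mem_univ _) ?_ ?_ (fun _ _ => rfl)
  · intro a ha b hb hab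
    have h1 : word a = word b := congrArg Subtype.val hab
    exact pts_inj (lt_of_mem (List.mem_toFinset.1 ha)) (lt_of_mem (List.mem_toFinset.1 hb)) (by
      unfold pts; rw [h1])
  · intro c _
    obtain ⟨m, hm, h⟩ := (mem_golayCode_iff _).1 c.2
    exact ⟨m, List.mem_toFinset.2 hm, Subtype.ext h⟩

theorem card_code : Nat.card golayCode = 4096 := by
  classical
  let _ : Fintype golayCode := Fintype.ofFinite _
  have h1 := sum_code (fun _ => (1 : ℂ))
  have h2 : L.length = 4096 := by decide +kernel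
  rw [Finset.sum_const, Finset.card_univ, nsmul_eq_mul, mul_one, List.map_const', List.sum_replicate, nsmul_eq_mul,
    mul_one, h2] at h1
  rw [Nat.card_eq_fintype_card]
  exact_mod_cast h1

/-! ### the multiplicities -/

variable {W : Type*} [AddCommGroup W] [Module ℂ W]

/-- the representation of the code -/
noncomputable def rcode (R : Spor.Co1 →* (W →ₗ[ℂ] W)) : Multiplicative golayCode →* (W →ₗ[ℂ] W) where
  toFun c := R (pr (signCo0 (Multiplicative.toAdd c)))
  map_one' := by
    show R (pr (signCo0 0)) = 1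
    rw [signCo0_zero, map_one, map_one]
  map_mul' a b := by
    show R (pr (signCo0 (Multiplicative.toAdd a + Multiplicative.toAdd b))) = _
    rw [signCo0_add, map_mul, map_mul]

theorem rcode_apply (R : Spor.Co1 →* (W →ₗ[ℂ] W)) (c : Multiplicative golayCode) :
    rcode R c = R (pr (signCo0 (Multiplicative.toAdd c))) := rfl

/-- the character of the set `S` -/
noncomputable def chi (S : Finset GolayPt) (c : Multiplicative golayCode) : ℂ :=
  sg (∑ p ∈ S, ((Multiplicative.toAdd c : golayCode) : GolayPt → ZMod 2) p)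

theorem lin_chi (S : Finset GolayPt) : Lin (chi S) := by
  refine ⟨fun a b => ?_, fun a => sg_sq _⟩
  unfold chi
  rw [← sg_add, ← Finset.sum_add_distrib]
  rfl

theorem exists_octad : ∃ o : golayCode, wt o = 8 := by
  obtain ⟨s, hs⟩ : octads.Nonempty := by
    apply Set.nonempty_of_ncard_ne_zero
    rw [octads_ncard]; norm_num
  exact ⟨wordOf s, wt_wordOf hs⟩

theorem exists_dodecad : ∃ o : golayCode, wt o = 12 := by
  obtain ⟨s, hs⟩ : dodecads.Nonempty := by
    apply Set.nonempty_of_ncard_ne_zero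
    rw [dodecads_ncard]; norm_num
  refine ⟨wordOf s, ?_⟩
  unfold wt
  rw [sup_wordOf hs.1]
  exact hs.2

/-- the trace as a function of the weight -/
noncomputable def tt (u a b : ℂ) (n : ℕ) : ℂ := if n = 0 ∨ n = 24 then u else if n = 12 then b else a

theorem trace_conj (R : Spor.Co1 →* (W →ₗ[ℂ] W)) {x y : Spor.Co1} (h : IsConj x y) :
    LinearMap.trace ℂ W (R x) = LinearMap.trace ℂ W (R y) := by
  obtain ⟨g, rfl⟩ := isConj_iff.1 h
  rw [map_mul R (g * x) g⁻¹, LinearMap.trace_mul_comm, ← map_mul, ← mul_assoc, inv_mul_cancel, one_mul]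

theorem trace_eq [FiniteDimensional ℂ W] (R : Spor.Co1 →* (W →ₗ[ℂ] W)) {o d : golayCode} (ho : wt o = 8) (hd : wt d = 12)
    (c : golayCode) : LinearMap.trace ℂ W (R (pr (signCo0 c))) =
      tt (finrank ℂ W) (LinearMap.trace ℂ W (R (pr (signCo0 o)))) (LinearMap.trace ℂ W (R (pr (signCo0 d)))) (wt c) := by
  unfold tt
  rcases wt_cases c with h | h | h | h | h
  · rw [if_pos (Or.inl h), (pr_sign_eq_one_iff c).2 (Or.inl h), map_one, LinearMap.trace_one]
  · rw [if_neg (by omega), if_neg (by omega)]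
    exact (trace_conj R ((isConj_octad_iff o c ho).2 (Or.inl h))).symm
  · rw [if_neg (by omega), if_pos h]
    exact (trace_conj R ((isConj_dodecad_iff d c hd).2 h)).symm
  · rw [if_neg (by omega), if_neg (by omega)]
    exact (trace_conj R ((isConj_octad_iff o c ho).2 (Or.inr h))).symm
  · rw [if_pos (Or.inr h), (pr_sign_eq_one_iff c).2 (Or.inr h), map_one, LinearMap.trace_one]

/-- the multiplicity of a character -/
theorem mult [FiniteDimensional ℂ W] (R : Spor.Co1 →* (W →ₗ[ℂ] W)) {o d : golayCode} (ho : wt o = 8) (hd : wt d = 12)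
    (S : Finset GolayPt) (bits : List ℕ)
    (hS : ∀ m, sg (∑ p ∈ S, word m p) = if ev bits m then (1 : ℂ) else -1) :
    (4096 : ℂ) * (finrank ℂ (eig (rcode R) (chi S)) : ℂ) =
      ∑ n ∈ ({0, 8, 12, 16, 24} : Finset ℕ),
        (((L.countP fun m => popc m == n && ev bits m : ℕ) : ℂ) - ((L.countP fun m => popc m == n && !ev bits m : ℕ) : ℂ)) *
        tt (finrank ℂ W) (LinearMap.trace ℂ W (R (pr (signCo0 o)))) (LinearMap.trace ℂ W (R (pr (signCo0 d)))) n := by
  classical
  let _ : Fintype golayCode := Fintype.ofFinite _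
  let _ : Fintype (Multiplicative golayCode) := inferInstanceAs (Fintype golayCode)
  have hcard : (Fintype.card (Multiplicative golayCode) : ℂ) = 4096 := by
    have h1 := sum_code (fun _ => (1 : ℂ))
    have h2 : L.length = 4096 := by decide +kernel
    rw [Finset.sum_const, Finset.card_univ, nsmul_eq_mul, mul_one, List.map_const', List.sum_replicate, nsmul_eq_mul,
      mul_one, h2] at h1
    rw [Fintype.card_congr Multiplicative.toAdd, h1]
    norm_num
  have h1 := trace_avg (rcode R) (lin_chi S)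
  rw [trace_avg_eq_sum, hcard] at h1
  rw [← h1, ← mul_assoc, mul_inv_cancel₀ (by norm_num), one_mul]
  rw [← list_sum L _ popc (ev bits) _ popc_mem]
  have h2 := sum_code (fun w => sg (∑ p ∈ S, w p) *
    tt (finrank ℂ W) (LinearMap.trace ℂ W (R (pr (signCo0 o)))) (LinearMap.trace ℂ W (R (pr (signCo0 d))))
      (support₂ w).card)
  have h3 : (L.map fun m => sg (∑ p ∈ S, word m p) *
      tt (finrank ℂ W) (LinearMap.trace ℂ W (R (pr (signCo0 o)))) (LinearMap.trace ℂ W (R (pr (signCo0 d))))
        (support₂ (word m)).card) = (L.map fun m => (if ev bits m then (1 : ℂ) else -1) *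
      tt (finrank ℂ W) (LinearMap.trace ℂ W (R (pr (signCo0 o)))) (LinearMap.trace ℂ W (R (pr (signCo0 d)))) (popc m)) := by
    refine List.map_congr_left fun m _ => ?_
    rw [hS, ← card_pts]
    rfl
  rw [h3] at h2
  rw [← h2]
  refine Fintype.sum_equiv Multiplicative.toAdd _ _ fun c => ?_
  rw [rcode_apply, trace_eq R ho hd]
  rfl

theorem hS0 (m : ℕ) : sg (∑ p ∈ (∅ : Finset GolayPt), word m p) = if ev [] m then (1 : ℂ) else -1 := by
  rw [Finset.sum_empty, sg_zero]
  rfl

theorem key2 : ∀ x y : Bool, ((if x then (1 : ZMod 2) else 0) + (if y then (1 : ZMod 2) else 0) = 0) ↔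
    ([x, y].countP (fun b => b) % 2 == 0) = true := by decide

theorem key4 : ∀ x y u v : Bool, ((if x then (1 : ZMod 2) else 0) + ((if y then (1 : ZMod 2) else 0) +
    ((if u then (1 : ZMod 2) else 0) + (if v then (1 : ZMod 2) else 0))) = 0) ↔
    ([x, y, u, v].countP (fun b => b) % 2 == 0) = true := by decide

theorem ev_eq (bits : List ℕ) (m : ℕ) :
    ev bits m = ((bits.map fun i => m.testBit i).countP (fun b => b) % 2 == 0) := by
  unfold ev
  rw [List.countP_map]
  rfl

theorem hS2 (m : ℕ) : sg (∑ p ∈ ({some 0, some 1} : Finset GolayPt), word m p) = if ev [0, 1] m then (1 : ℂ) else -1 := by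
  rw [Finset.sum_insert (by decide), Finset.sum_singleton]
  have h0 : pos (some 0) = 0 := by decide
  have h1 : pos (some 1) = 1 := by decide
  unfold word sg
  rw [h0, h1, ev_eq]
  exact if_congr (key2 _ _) rfl rfl

theorem hS4 (m : ℕ) : sg (∑ p ∈ ({some 0, some 1, some 2, some 3} : Finset GolayPt), word m p) =
    if ev [0, 1, 2, 3] m then (1 : ℂ) else -1 := by
  rw [Finset.sum_insert (by decide), Finset.sum_insert (by decide), Finset.sum_insert (by decide), Finset.sum_singleton]
  have h0 : pos (some 0) = 0 := by decide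
  have h1 : pos (some 1) = 1 := by decide
  have h2 : pos (some 2) = 2 := by decide
  have h3 : pos (some 3) = 3 := by decide
  unfold word sg
  rw [h0, h1, h2, h3, ev_eq]
  exact if_congr (key4 _ _ _ _) rfl rfl

theorem tab_sum (bits : List ℕ) (p0 q0 p1 q1 p2 q2 p3 q3 p4 q4 : ℕ)
    (h : tab bits = [(p0, q0), (p1, q1), (p2, q2), (p3, q3), (p4, q4)]) (u a b : ℂ) :
    (∑ n ∈ ({0, 8, 12, 16, 24} : Finset ℕ),
        (((L.countP fun m => popc m == n && ev bits m : ℕ) : ℂ) - ((L.countP fun m => popc m == n && !ev bits m : ℕ) : ℂ)) *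
        tt u a b n) = ((p0 : ℂ) - q0) * u + ((p1 : ℂ) - q1) * a + ((p2 : ℂ) - q2) * b + ((p3 : ℂ) - q3) * a +
          ((p4 : ℂ) - q4) * u := by
  unfold tab at h
  simp only [List.map_cons, List.map_nil, List.cons.injEq, Prod.mk.injEq, and_true] at h
  obtain ⟨⟨a0, b0⟩, ⟨a1, b1⟩, ⟨a2, b2⟩, ⟨a3, b3⟩, a4, b4⟩ := h
  rw [Finset.sum_insert (by decide), Finset.sum_insert (by decide), Finset.sum_insert (by decide),
    Finset.sum_insert (by decide), Finset.sum_singleton, a0, b0, a1, b1, a2, b2, a3, b3, a4, b4]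
  have t0 : tt u a b 0 = u := if_pos (Or.inl rfl)
  have t1 : tt u a b 8 = a := by unfold tt; rw [if_neg (by omega), if_neg (by omega)]
  have t2 : tt u a b 12 = b := by unfold tt; rw [if_neg (by omega), if_pos rfl]
  have t3 : tt u a b 16 = a := by unfold tt; rw [if_neg (by omega), if_neg (by omega)]
  have t4 : tt u a b 24 = u := if_pos (Or.inr rfl)
  rw [t0, t1, t2, t3, t4]
  ring

/-- `m₀ + 276 m₂ + 1771 m₄ = degree` -/
theorem mult_sum [FiniteDimensional ℂ W] (R : Spor.Co1 →* (W →ₗ[ℂ] W)) :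
    finrank ℂ (eig (rcode R) (chi ∅)) + 276 * finrank ℂ (eig (rcode R) (chi {some 0, some 1})) +
      1771 * finrank ℂ (eig (rcode R) (chi {some 0, some 1, some 2, some 3})) = finrank ℂ W := by
  obtain ⟨o, ho⟩ := exists_octad
  obtain ⟨d, hd⟩ := exists_dodecad
  have e0 := mult R ho hd ∅ [] hS0
  have e2 := mult R ho hd {some 0, some 1} [0, 1] hS2
  have e4 := mult R ho hd {some 0, some 1, some 2, some 3} [0, 1, 2, 3] hS4
  rw [tab_sum _ _ _ _ _ _ _ _ _ _ _ tab0] at e0
  rw [tab_sum _ _ _ _ _ _ _ _ _ _ _ tab2] at e2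
  rw [tab_sum _ _ _ _ _ _ _ _ _ _ _ tab4] at e4
  have h : ((finrank ℂ (eig (rcode R) (chi ∅)) + 276 * finrank ℂ (eig (rcode R) (chi {some 0, some 1})) +
      1771 * finrank ℂ (eig (rcode R) (chi {some 0, some 1, some 2, some 3})) : ℕ) : ℂ) = (finrank ℂ W : ℂ) := by
    push_cast at e0 e2 e4 ⊢
    linear_combination (1 / 4096 : ℂ) * e0 + (276 / 4096 : ℂ) * e2 + (1771 / 4096 : ℂ) * e4
  exact_mod_cast h

/-- **Representations of `Co1` of degree `< 276` are trivial.** -/
theorem trivial_of_lt [FiniteDimensional ℂ W] (R : Spor.Co1 →* (W →ₗ[ℂ] W)) (h : finrank ℂ W < 276) (g : Spor.Co1) :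
    R g = 1 := by
  have h1 := mult_sum R
  have h2 : finrank ℂ (eig (rcode R) (chi ∅)) = finrank ℂ W := by
    rcases Nat.eq_zero_or_pos (finrank ℂ (eig (rcode R) (chi {some 0, some 1}))) with hb | hb
    · rcases Nat.eq_zero_or_pos (finrank ℂ (eig (rcode R) (chi {some 0, some 1, some 2, some 3}))) with hc | hc
      · rw [hb, hc] at h1; omega
      · omega
    · omega
  have h3 : eig (rcode R) (chi ∅) = ⊤ := Submodule.eq_top_of_finrank_eq h2
  have h4 : ∀ c : golayCode, R (pr (signCo0 c)) = 1 := by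
    intro c
    ext x
    have hx : x ∈ eig (rcode R) (chi ∅) := by rw [h3]; trivial
    have h5 := hx (Multiplicative.ofAdd c)
    have h6 : chi ∅ (Multiplicative.ofAdd c) = 1 := by
      unfold chi
      rw [Finset.sum_empty, sg_zero]
    rw [h6, one_smul] at h5
    exact h5
  have hs : IsSimpleGroup Spor.Co1 := Cfsg.Agent.S0399.result.1
  obtain ⟨o, ho⟩ := exists_octad
  rcases hs.eq_bot_or_eq_top_of_normal R.ker inferInstance with h5 | h5
  · exfalso
    have h6 : pr (signCo0 o) ∈ R.ker := h4 o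
    rw [h5, Subgroup.mem_bot, pr_sign_eq_one_iff] at h6
    omega
  · have h6 : g ∈ R.ker := by rw [h5]; trivial
    exact h6

end Cfsg.Agent.H847.Co1Small
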