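import Cfsg.Agent.H847.QMain
import Cfsg.Agent.MonsterU.ModelChart
import Cfsg.Agent.MonsterU.Uncond
import Cfsg.Agent.MonsterP.Equiv

/-!
# The minimal degree of the Monster (helper847)

`bound` : every nontrivial complex representation of the Monster has degree at least `196883`.
-/

set_option autoImplicit false

namespace Cfsg.Agent.H847.MonDeg

open Module Cfsg
open Cfsg.Agent.MonsterX Cfsg.Agent.MonsterX.Model Cfsg.Agent.MonsterX.MainPack Cfsg.Agent.MonsterX.MainSimple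
  Cfsg.Agent.MonsterX.MainBasic
open Cfsg.Agent.MonsterU.Ch
open Cfsg.Spor (Co1)

theorem gen {W : Type} [AddCommGroup W] [Module ℚ W] {M : MData W} {K₀ : Type} [Group K₀] (hG : MGroup M K₀) :
    Subgroup.closure ((Subgroup.centralizer ({zG hG} : Set M.G) : Set M.G) ∪ {(⟨M.τ, τ_mem⟩ : M.G)}) = ⊤ := by
  have hcl : Subgroup.closure ((Subtype.val : M.G → (W ≃ₗ[ℚ] W)) ⁻¹'
      ((M.C : Set (W ≃ₗ[ℚ] W)) ∪ {M.τ})) = ⊤ := Subgroup.closure_closure_coe_preimage
  rw [eq_top_iff, ← hcl]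
  apply Subgroup.closure_mono
  rintro ⟨s, hs⟩ (h | h)
  · left
    rw [SetLike.mem_coe, Subgroup.mem_centralizer_singleton_iff]
    exact Subtype.ext (hG.z_comm s h)
  · right
    exact Subtype.ext h

/-- the bound for the model -/
theorem bound_model {V : Type*} [AddCommGroup V] [Module ℂ V] [FiniteDimensional ℂ V]
    (ρ : InstData.M.G →* (V →ₗ[ℂ] V)) (hρ : ∃ g, ρ g ≠ 1) : 196883 ≤ finrank ℂ V := by
  have A := Cfsg.Agent.MonsterU.Uncond.all
  obtain ⟨eta, pi, c⟩ := Cfsg.Agent.MonsterU.ModelChart.chart A.hG A.hR A.hL A.hO A.hT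
  have hM := Cfsg.Agent.MonsterP.EquivOf.isM_model
  have := hM.1
  have := G_finite A.hO
  exact QMain.bound c hM.2 (t := ⟨InstData.M.τ, τ_mem⟩) A.hO.τ_z
    (fun e => A.hO.τ_z_ne (congrArg Subtype.val e)) (gen A.hG) ρ hρ

/-- **The minimal degree of the Monster.** -/
theorem bound {V : Type*} [AddCommGroup V] [Module ℂ V] [FiniteDimensional ℂ V]
    (ρ : Spor.Monster →* (V →ₗ[ℂ] V)) (hρ : ∃ g, ρ g ≠ 1) : 196883 ≤ finrank ℂ V := by
  obtain ⟨e⟩ := Cfsg.Agent.MonsterP.Equiv.equiv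
  refine bound_model (ρ.comp e.symm.toMonoidHom) ?_
  obtain ⟨g, hg⟩ := hρ
  refine ⟨e g, ?_⟩
  show ρ (e.symm (e g)) ≠ 1
  rwa [e.symm_apply_apply]

end Cfsg.Agent.H847.MonDeg
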