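import Mathlib
import Cfsg.Agent.H546.RadSeven
import Cfsg.Agent.H847.JTwoOdd

/-!
# Elements of order 5 in the radical of `C_M(5B)` commute with involutions (helper847)

* `exists_inv_E` : `S` a normal subgroup of order `5 ^ 6` of `E`, `E → J2` with a kernel of even order, `C_E(S)` in the kernel:
  every element of `S` commutes with an involution (an odd order stabilizer would be too large for `J2`);
* `exists_inv` : the same for the elements of order 5 of the radical in the situation `Rad` (helper55).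
-/

set_option autoImplicit false

namespace Cfsg.Agent.H847.RadFive

open Subgroup Cfsg Cfsg.Agent.BpTab Cfsg.Agent.BpSpor.M5
open Cfsg.Agent.H749 (PEl exists_pEl_lift)

universe u v

/-- the class of an element of a normal subgroup -/
theorem index_le {E : Type u} [Group E] [Finite E] (S : Subgroup E) (hSn : S.Normal) {r : E} (hr : r ∈ S) (hr1 : r ≠ 1) :
    (centralizer ({r} : Set E)).index ≤ Nat.card ↥S - 1 := by
  have key : ∀ g : E, g * r * g⁻¹ ∈ S := fun g => hSn.conj_mem r hr g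
  have key1 : ∀ g : E, (⟨g * r * g⁻¹, key g⟩ : ↥S) ≠ 1 := by
    intro g h
    have h1 : g * r * g⁻¹ = 1 := congrArg Subtype.val h
    exact hr1 (conj_eq_one_iff.1 h1)
  let f : E ⧸ centralizer ({r} : Set E) → {s : ↥S // s ≠ 1} :=
    Quotient.lift (fun g : E => (⟨⟨g * r * g⁻¹, key g⟩, key1 g⟩ : {s : ↥S // s ≠ 1})) (by
      intro a b hab
      have h1 : a⁻¹ * b ∈ centralizer ({r} : Set E) := QuotientGroup.leftRel_apply.1 hab
      have h2 := mem_centralizer_singleton_iff.1 h1
      apply Subtype.ext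
      apply Subtype.ext
      show a * r * a⁻¹ = b * r * b⁻¹
      calc a * r * a⁻¹ = a * (r * (a⁻¹ * b)) * b⁻¹ := by group
        _ = a * ((a⁻¹ * b) * r) * b⁻¹ := by rw [h2]
        _ = _ := by group)
  have hf : Function.Injective f := by
    intro x y
    induction x using Quotient.inductionOn with
    | _ a =>
    induction y using Quotient.inductionOn with
    | _ b =>
    intro h
    have h1 : a * r * a⁻¹ = b * r * b⁻¹ := congrArg (fun t : {s : ↥S // s ≠ 1} => ((t : ↥S) : E)) h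
    apply Quotient.sound
    apply QuotientGroup.leftRel_apply.2
    rw [mem_centralizer_singleton_iff]
    calc a⁻¹ * b * r = a⁻¹ * (b * r * b⁻¹) * b := by group
      _ = a⁻¹ * (a * r * a⁻¹) * b := by rw [h1]
      _ = _ := by group
  have h1 := Nat.card_le_card_of_injective f hf
  have h2 : Nat.card {s : ↥S // s ≠ 1} = Nat.card ↥S - 1 := by
    classical
    have := Fintype.ofFinite ↥S
    rw [Nat.card_eq_fintype_card, Nat.card_eq_fintype_card, Fintype.card_subtype_compl, Fintype.card_subtype_eq]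
  rw [h2] at h1
  exact h1

/-- the orders of the kernel and the image -/
theorem card_ker_mul {E : Type u} [Group E] [Finite E] {A : Type v} [Group A] (ρ : E →* A) :
    Nat.card ↥ρ.ker * Nat.card ↥ρ.range = Nat.card E := by
  rw [mul_comm, card_eq_card_quotient_mul_card_subgroup ρ.ker,
    Nat.card_congr (QuotientGroup.quotientKerEquivRange ρ).toEquiv]

/-- **The counting argument.** -/
theorem exists_inv_E {E : Type u} [Group E] [Finite E] {A : Type v} [Group A] (hA : Spor.IsoJ2 A)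
    (ρ : E →* A) (hρ : Function.Surjective ρ) (S : Subgroup E) (hSn : S.Normal) (hS : Nat.card ↥S = 5 ^ 6)
    {z : E} (hz : z * z = 1) (hz1 : z ≠ 1) (hρz : ρ z = 1)
    (hC : ∀ g ∈ centralizer (S : Set E), ρ g = 1) {r : E} (hr : r ∈ S) (hr1 : r ≠ 1) :
    ∃ t : E, t * t = 1 ∧ t ≠ 1 ∧ t * r = r * t := by
  by_contra hcon
  push Not at hcon
  have hfA : Finite A := Finite.of_surjective ρ hρ
  have hcA := JTwoOdd.card_of hA
  have h2 : Fact (Nat.Prime 2) := ⟨Nat.prime_two⟩
  have h7 : Fact (Nat.Prime 7) := ⟨by norm_num⟩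
  set C := centralizer ({r} : Set E) with hCdef
  have hodd : Odd (Nat.card ↥C) := by
    by_contra ho
    rw [Nat.not_odd_iff_even, even_iff_two_dvd] at ho
    obtain ⟨t, ht⟩ := exists_prime_orderOf_dvd_card' 2 ho
    have ht2 : t * t = 1 := by rw [← pow_two, ← ht, pow_orderOf_eq_one]
    refine hcon t (congrArg Subtype.val ht2) ?_ (mem_centralizer_singleton_iff.1 t.2)
    intro h1
    have h3 : t = 1 := Subtype.ext h1
    rw [h3, orderOf_one] at ht
    norm_num at ht
  have hidx : C.index ≤ 15624 := by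
    have h1 := index_le S hSn hr hr1
    rw [hS] at h1
    exact h1
  set H : Subgroup A := C.map ρ with hH
  have hHo : Odd (Nat.card ↥H) := hodd.of_dvd_nat (card_map_dvd C ρ)
  have hH7 : ¬ 7 ∣ Nat.card ↥H := by
    intro h
    obtain ⟨b, hb⟩ := exists_prime_orderOf_dvd_card' 7 h
    have hbp : PEl 7 b := ⟨1, by rw [pow_one, ← hb, pow_orderOf_eq_one]⟩
    obtain ⟨w, hw, hwb⟩ := exists_pEl_lift (ρ.subgroupMap C) (ρ.subgroupMap_surjective C) hbp
    have hwE : PEl 7 (w : E) := by
      obtain ⟨n, hn⟩ := hw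
      exact ⟨n, by rw [← SubmonoidClass.coe_pow, hn]; rfl⟩
    have hwr : (w : E) * r = r * w := mem_centralizer_singleton_iff.1 w.2
    by_cases hne : ∃ s ∈ S, (w : E) * s ≠ s * w
    · have hSp : IsPGroup 5 ↥S := IsPGroup.of_card hS
      have h3 := H546.RadSeven.dvd_of_seven hSp hwE (fun s hs => hSn.conj_mem s hs w) hr hr1 hwr hne
      rw [hS] at h3
      norm_num at h3
    · push Not at hne
      have h3 : ρ w = 1 := hC w (mem_centralizer_iff.2 fun s hs => (hne s hs).symm)
      have h4 : b = 1 := by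
        rw [← hwb]
        exact Subtype.ext h3
      rw [h4, orderOf_one] at hb
      norm_num at hb
  have h77 := JTwoOdd.j2_odd hA H hHo hH7
  -- orders
  let ρC : ↥C →* A := ρ.comp C.subtype
  have hr1 : ρC.range = H := by
    rw [MonoidHom.range_comp, Subgroup.range_subtype]
  have hc1 := card_ker_mul ρC
  have hc2 := card_ker_mul ρ
  rw [hr1] at hc1
  rw [MonoidHom.range_eq_top.2 hρ, card_top, hcA] at hc2
  have hk1 : Nat.card ↥ρC.ker ∣ Nat.card ↥ρ.ker := by
    let φ : ↥ρC.ker →* ↥ρ.ker := (C.subtype.comp ρC.ker.subtype).codRestrict ρ.ker fun a => by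
      have h3 : ρC a = 1 := a.2
      exact h3
    refine card_dvd_of_injective φ ?_
    intro a b hab
    have h3 : ((a : ↥C) : E) = b := congrArg (fun t : ↥ρ.ker => (t : E)) hab
    exact Subtype.ext (Subtype.ext h3)
  have hk2 : Odd (Nat.card ↥ρC.ker) := hodd.of_dvd_nat ρC.ker.card_subgroup_dvd_card
  have hk3 : 2 ∣ Nat.card ↥ρ.ker := by
    have h3 : orderOf (⟨z, hρz⟩ : ↥ρ.ker) = 2 := by
      refine orderOf_eq_prime (Subtype.ext ?_) ?_
      · show z ^ 2 = 1
        rw [pow_two, hz]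
      · intro h4
        exact hz1 (congrArg Subtype.val h4)
    rw [← h3]
    exact orderOf_dvd_natCard _
  have hk4 : 2 * Nat.card ↥ρC.ker ∣ Nat.card ↥ρ.ker :=
    Nat.Coprime.mul_dvd_of_dvd_of_dvd (Nat.coprime_two_left.2 hk2) hk3 hk1
  have hk5 := Nat.le_of_dvd Nat.card_pos hk4
  have hc3 := C.card_mul_index
  have hpos : 0 < Nat.card ↥ρ.ker := Nat.card_pos
  -- `2 |ker ρ| |A| ≤ 15624 * 77 |ker ρ|`
  have hfin : 2 * (Nat.card ↥ρ.ker * 604800) ≤ 15624 * 77 * Nat.card ↥ρ.ker := by
    calc 2 * (Nat.card ↥ρ.ker * 604800) = 2 * (Nat.card ↥ρC.ker * Nat.card ↥H * C.index) := by rw [hc2, hc1, hc3]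
      _ = (2 * Nat.card ↥ρC.ker) * (Nat.card ↥H * C.index) := by ring
      _ ≤ Nat.card ↥ρ.ker * (77 * 15624) := Nat.mul_le_mul hk5 (Nat.mul_le_mul h77 hidx)
      _ = _ := by ring
  omega

/-- a solvable normal subgroup is in the kernel of a map onto a non-solvable simple group -/
theorem map_eq_one {D : Type u} [Group D] {A : Type v} [Group A] [IsSimpleGroup A] (hAc : ¬ Group.IsSolvable A)
    (ρ : D →* A) (hρ : Function.Surjective ρ) (B : Subgroup D) (hB : B.Normal) (hs : Group.IsSolvable ↥B) :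
    ∀ b ∈ B, ρ b = 1 := by
  intro b hb
  rcases (hB.map ρ hρ).eq_bot_or_eq_top with h | h
  · exact mem_bot.1 (h ▸ mem_map_of_mem ρ hb)
  · exfalso
    apply hAc
    have h5 : Group.IsSolvable ↥(B.map ρ) := Group.isSolvable_of_surjective (ρ.subgroupMap_surjective _)
    rw [h] at h5
    exact Group.isSolvable_of_surjective (f := (topEquiv (G := A)).toMonoidHom) topEquiv.surjective

section rad

variable {D : Type u} [Group D] [Finite D] {z x : D} {N : Subgroup D} {A : Type v} [Group A]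
  {f : ↥(centralizer ({z} : Set D)) →* A}

/-- the map onto `A` -/
theorem exists_rho [IsSimpleGroup A] (hAc : ¬ Group.IsSolvable A) {p : ℕ} [Fact p.Prime] (h : Rad p z x N f) :
    ∃ ρ : D →* A, Function.Surjective ρ ∧ (∀ n ∈ N, ρ n = 1) ∧ (∀ c : ↥(centralizer ({z} : Set D)), ρ c = f c) ∧
      ρ z = 1 ∧ ∀ g, ρ g = 1 → g * g ∈ N := by
  have hN := h.nN
  let α : ↥(centralizer ({z} : Set D)) →* D ⧸ N := (QuotientGroup.mk' N).comp (centralizer ({z} : Set D)).subtype
  have hα : Function.Surjective α := by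
    intro y
    obtain ⟨g, rfl⟩ := QuotientGroup.mk'_surjective N y
    obtain ⟨n, hn, c, hc, rfl⟩ := h.sup g
    refine ⟨⟨c, mem_centralizer_singleton_iff.2 hc⟩, ?_⟩
    show QuotientGroup.mk' N c = QuotientGroup.mk' N (n * c)
    rw [map_mul, show QuotientGroup.mk' N n = 1 from (QuotientGroup.eq_one_iff n).2 hn, one_mul]
  have hle : ∀ c, α c = 1 → f c = 1 := by
    intro c hc
    have h1 : (c : D) ∈ N := (QuotientGroup.eq_one_iff _).1 hc
    obtain ⟨i, hi⟩ := mem_zpowers_iff.1 (h.cN c h1 (mem_centralizer_singleton_iff.1 c.2))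
    refine h.f_central hAc fun g => Subtype.ext ?_
    show (g : D) * c = c * g
    rw [← hi]
    exact h.xzc i g
  obtain ⟨ρ, hρ⟩ := LThreeMB.exists_fac α hα f (fun a ha => hle a ha)
  have hρN : ∀ n ∈ N, ρ (QuotientGroup.mk' N n) = 1 := by
    intro n hn
    rw [show QuotientGroup.mk' N n = 1 from (QuotientGroup.eq_one_iff n).2 hn, map_one]
  have hρc : ∀ c : ↥(centralizer ({z} : Set D)), ρ (QuotientGroup.mk' N c) = f c := fun c => hρ c
  refine ⟨ρ.comp (QuotientGroup.mk' N), ?_, hρN, hρc, ?_, ?_⟩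
  · intro s
    obtain ⟨c, rfl⟩ := h.surj s
    exact ⟨c, hρc c⟩
  · have h1 := hρc ⟨z, mem_centralizer_singleton_iff.2 rfl⟩
    refine Eq.trans h1 (h.f_central hAc fun g => Subtype.ext ?_)
    exact mem_centralizer_singleton_iff.1 g.2
  · intro g hg
    obtain ⟨n, hn, c, hc, rfl⟩ := h.sup g
    have h1 : f ⟨c, mem_centralizer_singleton_iff.2 hc⟩ = 1 := by
      rw [← hρc]
      have h2 : ρ (QuotientGroup.mk' N (n * c)) = 1 := hg
      rwa [map_mul, map_mul, hρN n hn, one_mul] at h2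
    have hcN : c * c ∈ N := by
      obtain ⟨i, hi⟩ := h.ker_sq h1
      have hi' : c * c = x ^ i := hi
      rw [hi']
      exact N.zpow_mem h.xN i
    have e : n * c * (n * c) = n * (c * n * c⁻¹) * (c * c) := by group
    rw [e]
    exact N.mul_mem (N.mul_mem hn (hN.conj_mem n hn c)) hcN

/-- **The elements of order 5 of the radical commute with an involution.** -/
theorem exists_inv [hp : Fact (Nat.Prime 5)] [IsSimpleGroup A] (hAc : ¬ Group.IsSolvable A) (hA : Spor.IsoJ2 A)
    (hA3 : ¬ 5 ^ 3 ∣ Nat.card A) (h : Rad 5 z x N f) {k : ↥(centralizer ({z} : Set D))} (hk : (k : D) * k = z)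
    (hD4 : 5 ^ 4 ∣ Nat.card D) (hD10 : ¬ 5 ^ 10 ∣ Nat.card D) {r : D} (hro : orderOf r = 5)
    (hr : ∀ ρ : D →* A, Function.Surjective ρ → ρ r = 1) : ∃ t : D, t * t = 1 ∧ t ≠ 1 ∧ t * r = r * t := by
  have hN := h.nN
  have hcA := JTwoOdd.card_of hA
  obtain ⟨ρ, hρ, hρN, -, hρz, hρs⟩ := exists_rho hAc h
  obtain ⟨S, hSn, hSp, hSN, hxS, hS7⟩ := H546.RadSeven.exists_radical_seven hAc h hk (a := 2) hD4 hA3
    (by rw [hcA]; norm_num)
  -- `5 ^ 8` does not divide `|N|`
  have hN8 : ¬ 5 ^ 8 ∣ Nat.card ↥N := by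
    intro h8
    obtain ⟨m, -, hm⟩ := h.card_N_mul hAc
    apply hD10
    rw [hm, hcA, show 10 = 8 + 2 from rfl, pow_add]
    exact mul_dvd_mul h8 (Dvd.dvd.mul_right (by norm_num) _)
  have hpow : ∀ T : Subgroup D, IsPGroup 5 ↥T → T ≤ N → Nat.card ↥T ≤ 5 ^ 7 := by
    intro T hT hTN
    obtain ⟨m, hm⟩ := IsPGroup.iff_card.1 hT
    have h1 := card_dvd_of_le hTN
    rw [hm] at h1 ⊢
    refine Nat.pow_le_pow_right (by norm_num) ?_
    by_contra h2
    push Not at h2
    exact hN8 ((pow_dvd_pow 5 h2).trans h1)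
  have hS : Nat.card ↥S = 5 ^ 7 := le_antisymm (hpow S hSp hSN) (Nat.le_of_dvd Nat.card_pos hS7)
  -- `r ∈ S`
  have hrN : r ∈ N := by
    have h1 := hρs r (hr ρ hρ)
    have h2 : r = (r * r) ^ 3 := by
      have h3 : r ^ 5 = 1 := by rw [← hro, pow_orderOf_eq_one]
      rw [← pow_two, ← pow_mul, show 2 * 3 = 5 + 1 from rfl, pow_succ, h3, one_mul]
    rw [h2]
    exact N.pow_mem h1 3
  have hrS : r ∈ S := by
    have h1 : IsPGroup 5 ↥(zpowers r) := IsPGroup.of_card (n := 1) (by rw [Nat.card_zpowers, hro, pow_one])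
    have h2 : IsPGroup 5 ↥(S ⊔ zpowers r : Subgroup D) := hSp.to_sup_of_normal_left h1
    have h3 := hpow _ h2 (sup_le hSN (zpowers_le.2 hrN))
    have h4 : S = S ⊔ zpowers r := Subgroup.eq_of_le_of_card_ge le_sup_left (by rw [hS]; exact h3)
    rw [h4]
    exact mem_sup_right (mem_zpowers r)
  by_cases hrx : r ∈ zpowers x
  · obtain ⟨i, rfl⟩ := mem_zpowers_iff.1 hrx
    exact ⟨z, h.zz, h.z1, h.xzc i z⟩
  -- the quotient by `⟨x⟩`
  have hZ := h.normalZ
  set q := QuotientGroup.mk' (zpowers x) with hq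
  have hqs : Function.Surjective q := QuotientGroup.mk'_surjective _
  have hqk : ∀ g, q g = 1 ↔ g ∈ zpowers x := fun g => QuotientGroup.eq_one_iff g
  obtain ⟨ρE, hρE⟩ := LThreeMB.exists_fac q hqs ρ (fun a ha => by
    obtain ⟨i, rfl⟩ := mem_zpowers_iff.1 ((hqk a).1 ha)
    exact hρN _ (N.zpow_mem h.xN i))
  have hρEs : Function.Surjective ρE := by
    intro a
    obtain ⟨g, rfl⟩ := hρ a
    exact ⟨q g, hρE g⟩
  have hSE : Nat.card ↥(S.map q) = 5 ^ 6 := by
    have h1 := card_ker_mul (q.comp S.subtype)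
    have h2 : (q.comp S.subtype).range = S.map q := by
      rw [MonoidHom.range_comp, Subgroup.range_subtype]
    have h3 : Nat.card ↥(q.comp S.subtype).ker = 5 := by
      have h4 : (q.comp S.subtype).ker = (zpowers x).subgroupOf S := by
        ext a
        rw [mem_subgroupOf]
        exact hqk a
      rw [h4, ← h.ox, ← Nat.card_zpowers]
      exact Nat.card_congr (subgroupOfEquivOfLe (zpowers_le.2 hxS)).toEquiv
    rw [h2, h3, hS] at h1
    exact Nat.eq_of_mul_eq_mul_left (by norm_num) h1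
  obtain ⟨t', ht2, ht1, htr⟩ := exists_inv_E hA ρE hρEs (S.map q) (hSn.map q hqs) hSE (z := q z)
    (by rw [← map_mul, h.zz, map_one]) (by
      intro h1
      obtain ⟨i, hi⟩ := mem_zpowers_iff.1 ((hqk z).1 h1)
      have h2 := h.sq_one (by norm_num) (i := i) (by rw [hi]; exact h.zz)
      exact h.z1 (hi.symm.trans h2)) (by rw [hρE]; exact hρz) (by
      -- the centralizer of `S / ⟨x⟩`
      intro g hg
      obtain ⟨b, rfl⟩ := hqs g
      rw [hρE]
      have hSmn : (S.map q).Normal := hSn.map q hqs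
      set B : Subgroup D := (centralizer ((S.map q : Subgroup (D ⧸ zpowers x)) : Set (D ⧸ zpowers x))).comap q with hB
      have hBn : B.Normal := inferInstance
      have hBs : Group.IsSolvable ↥B := by
        by_contra hns
        obtain ⟨c, hc, n, hn, hz⟩ := h.z_mem_sup (by norm_num) hk B hns
        have h1 : S ≤ zpowers x := by
          intro s hs
          obtain ⟨i, hi⟩ := h.comm (by norm_num) hn (hSN hs)
          have h3 : ∃ j : ℤ, z * s * z⁻¹ = s * x ^ j := by
            have h4 : q (z * s * z⁻¹) = q s := by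
              rw [hz]
              have e : c * n * s * (c * n)⁻¹ = c * (n * s * n⁻¹) * c⁻¹ := by group
              rw [e, hi, map_mul, map_mul, map_inv, map_mul]
              have h5 : q (x ^ i) = 1 := (hqk _).2 (zpow_mem_zpowers x i)
              have h6 : q s * q c = q c * q s :=
                mem_centralizer_iff.1 (mem_comap.1 hc) (q s) (mem_map_of_mem q hs)
              rw [h5, mul_one, ← h6]
              group
            have h5 : q (s⁻¹ * (z * s * z⁻¹)) = 1 := by rw [map_mul, h4, map_inv, inv_mul_cancel]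
            obtain ⟨j, hj⟩ := mem_zpowers_iff.1 ((hqk _).1 h5)
            exact ⟨j, by rw [hj]; group⟩
          obtain ⟨j, hj⟩ := h3
          rw [h.cent_of_mod (by norm_num) h.zz hj, mul_one, mul_inv_eq_iff_eq_mul] at hj
          exact h.cN s (hSN hs) hj.symm
        have h2 := card_dvd_of_le h1
        rw [hS, Nat.card_zpowers, h.ox] at h2
        norm_num at h2
      exact map_eq_one hAc ρ hρ B hBn hBs b hg)
    (mem_map_of_mem q hrS) (fun h1 => hrx ((hqk r).1 h1))
  -- lift the involution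
  obtain ⟨s, rfl⟩ := hqs t'
  rw [← map_mul] at ht2
  obtain ⟨i, hi⟩ := mem_zpowers_iff.1 ((hqk _).1 ht2)
  have hx5 : x ^ 5 = 1 := by rw [← h.ox, pow_orderOf_eq_one]
  have hss : s ^ 5 * s ^ 5 = 1 := by
    have h1 : s ^ 5 * s ^ 5 = (s * s) ^ 5 := by rw [← pow_add, ← pow_two, ← pow_mul]
    rw [h1, ← hi, ← zpow_natCast, ← zpow_mul, mul_comm, zpow_mul, zpow_natCast, hx5, one_zpow]
  have hqs5 : q (s ^ 5) = q s := by
    rw [map_pow]
    have h1 : q s * q s = 1 := by rw [← map_mul]; exact ht2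
    calc (q s) ^ 5 = (q s * q s) * (q s * q s) * q s := by simp only [pow_succ, pow_zero, one_mul, mul_assoc]
      _ = q s := by rw [h1, one_mul, one_mul]
  refine ⟨s ^ 5, hss, ?_, ?_⟩
  · intro h1
    apply ht1
    rw [← hqs5, h1, map_one]
  · have h1 : ∃ j : ℤ, s ^ 5 * r * (s ^ 5)⁻¹ = r * x ^ j := by
      have h2 : q (s ^ 5 * r * (s ^ 5)⁻¹) = q r := by
        rw [map_mul, map_mul, map_inv, hqs5, htr, mul_inv_cancel_right]
      have h5 : q (r⁻¹ * (s ^ 5 * r * (s ^ 5)⁻¹)) = 1 := by rw [map_mul, h2, map_inv, inv_mul_cancel]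
      obtain ⟨j, hj⟩ := mem_zpowers_iff.1 ((hqk _).1 h5)
      exact ⟨j, by rw [hj]; group⟩
    obtain ⟨j, hj⟩ := h1
    rw [h.cent_of_mod (by norm_num) hss hj, mul_one, mul_inv_eq_iff_eq_mul] at hj
    exact hj

end rad

end Cfsg.Agent.H847.RadFive
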