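import Mathlib
import Cfsg.Agent.H847.RadFiveE
import Cfsg.Agent.H546.MFiveFull
import Cfsg.Agent.H839.Rad.Base
import Cfsg.Agent.S0399

/-!
# The Monster has no radical element of order 5 (helper847; task 681 of helper839)

`noRad_M_five`. `x₀` of order 5 and fixed rank 0 in `C(z)`, `D = C(x₀)`: `D` contains a Sylow 5-subgroup (helper546), a radical
element of `D` of order 5 lies in `S`, `|S| = 5 ^ 7`, and commutes with an involution `t` (`H847/RadFiveE`); the radical of
`C(t)` is a 2-group.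
-/

set_option autoImplicit false
set_option maxRecDepth 100000

namespace Cfsg.Agent.H847.RadFive

open Subgroup Cfsg
open Cfsg.Agent.MonsterU Cfsg.Agent.MFive Cfsg.Agent.BpTab Cfsg.Agent.BpSpor.M5
open Cfsg.Agent.LThreeMB (fr XX zD self toXX KChart.Cent KChart.pi KChart.chart)
open Cfsg.Agent.MonsterU.Ch
open Cfsg.Agent.MonsterU.Lam2 (L2)
open Cfsg.Agent.H459.Rad (RC PS)
open Cfsg.Agent.H839.Rad
open Cfsg.Spor (Co1)

universe u v

section chart

variable {G : Type u} [Group G] {Q : Subgroup G} {z : G} {eta : G → L2}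
  {pi : Subgroup.centralizer ({z} : Set G) →* Co1}

/-- **A radical element of order 5 commutes with an involution.** -/
theorem exists_inv_chart [Finite G] (h : Chart Q z eta pi) (htr : TrNe 5 z pi) (I : CoFive)
    (hJ : ∀ s : Co1, orderOf s = 5 → fr s = 1 → Spor.IsoJ2 (XX s)) (h8 : HNEight z pi)
    (hpr : HasPair 5 z pi) (hcl : WClassOf 5 1)
    (h4 : ∃ c : Co1, orderOf c = 5 ∧ fr c = 2 ^ 4 ∧ 5 ^ 4 ∣ Nat.card ↥(centralizer ({c} : Set Co1)))
    (hk : ∃ (x₀ : Subgroup.centralizer ({z} : Set G)) (k : G), orderOf x₀ = 5 ∧ fr (pi x₀) = 1 ∧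
      k * (x₀ : G) = x₀ * k ∧ k * k = z)
    (hcard : ¬ 5 ^ 10 ∣ Nat.card G) (hcen : center G = ⊥) {r : G} (hro : orderOf r = 5)
    (hrc : RC (MulAut.conj r)) : ∃ t : G, t * t = 1 ∧ t ≠ 1 ∧ t * r = r * t := by
  have hp : Nat.Prime 5 := Nat.prime_five
  have hpf : Fact (Nat.Prime 5) := ⟨hp⟩
  have ho : Odd 5 := by decide
  have hpr' := hpr
  obtain ⟨x, u, g, hx, hfr, huz, hux, hne, hg⟩ := hpr
  obtain ⟨x₁, k₁, hx₁, hfr₁, hkx₁, hkk₁⟩ := hk
  obtain ⟨k, hkx, hkk⟩ := exists_sq h hp ho hcl hx₁ hfr₁ hkx₁ hkk₁ hx hfr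
  have hJx := hJ _ (orderOf_pi h hp ho hx) hfr
  obtain ⟨f1, f2, f3, f4⟩ := j2_facts hJx
  have hD4 := dvd_zero h htr I h8 hpr' hcl h4 hx hfr
  obtain ⟨N, hN⟩ := exists_rad h (by norm_num) hx hfr (fun d hd hc => isolated h htr hx hfr d hd hc) f1 f2
  have hkz : k * z = z * k := by rw [← hkk, mul_assoc]
  obtain ⟨S, T, hSn, hST, hTp, hT9, hfac⟩ := H546.RadSeven.exists_nine (hA := f1) f3 hN
    (k := ⟨⟨k, mem_centralizer_singleton_iff.2 hkx⟩, mem_centralizer_singleton_iff.2 (Subtype.ext hkz)⟩)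
    (Subtype.ext hkk) hD4 f4 (by rw [JTwoOdd.card_of hJx]; norm_num) (by rw [JTwoOdd.card_of hJx]; norm_num)
  have hxo : orderOf (x : G) = 5 := by rw [Subgroup.orderOf_coe, hx]
  -- the Sylow subgroup
  set ι := (centralizer ({(x : G)} : Set G)).subtype with hι
  have hTp' : IsPGroup 5 ↥(T.map ι) := hTp.map ι
  have hT9' : 5 ^ 9 ∣ Nat.card ↥(T.map ι) := by
    rw [card_map_of_injective (Subgroup.subtype_injective _)]
    exact hT9
  have hidx : ¬ 5 ∣ (T.map ι).index := by
    intro h5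
    apply hcard
    rw [← (T.map ι).card_mul_index, pow_succ]
    exact mul_dvd_mul hT9' h5
  obtain ⟨a, ha⟩ := J2Type.SylowFive.exists_conj_mem_sylow (hTp'.toSylow hidx) (y := r) (n := 1)
    (by rw [hro, pow_one])
  have ha' : a * r * a⁻¹ ∈ T.map ι := by
    rw [← hTp'.toSylow_coe hidx]
    exact ha
  have haD : a * r * a⁻¹ ∈ centralizer ({(x : G)} : Set G) := map_subtype_le _ ha'
  have hao : orderOf (a * r * a⁻¹) = 5 := by rw [← MulAut.conj_apply, MulEquiv.orderOf_eq, hro]
  have htop : centralizer ({(x : G)} : Set G) ≠ ⊤ := by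
    intro h1
    have h2 : (x : G) ∈ center G := by
      rw [mem_center_iff]
      intro b
      exact mem_centralizer_singleton_iff.1 (h1 ▸ mem_top b)
    rw [hcen, mem_bot] at h2
    rw [h2, orderOf_one] at hxo
    norm_num at hxo
  have hrad := mem_rad (rc_conj hrc a) htop haD
  obtain ⟨t, htt, ht1, htr'⟩ := exists_inv f3 hJx f4 hN
    (k := ⟨⟨k, mem_centralizer_singleton_iff.2 hkx⟩, mem_centralizer_singleton_iff.2 (Subtype.ext hkz)⟩)
    (Subtype.ext hkk) hD4 (fun h10 => hcard (h10.trans (centralizer ({(x : G)} : Set G)).card_subgroup_dvd_card))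
    (r := ⟨a * r * a⁻¹, haD⟩) (by rw [Subgroup.orderOf_mk, hao]) (by
      intro ρ hρ
      have hfin : Finite (XX (pi x)) := Finite.of_surjective ρ hρ
      have h1 := H459.Rad.map_rad_le hρ hrad
      rw [H459.Rad.rad_eq_bot_of_simple f3, mem_bot] at h1
      exact h1)
  have e1 : (t : G) * (a * r * a⁻¹) = (a * r * a⁻¹) * t := congrArg Subtype.val htr'
  have e2 : (t : G) * t = 1 := congrArg Subtype.val htt
  refine ⟨a⁻¹ * t * a, ?_, ?_, ?_⟩
  · calc a⁻¹ * t * a * (a⁻¹ * t * a) = a⁻¹ * ((t : G) * t) * a := by group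
      _ = 1 := by rw [e2]; group
  · intro h1
    apply ht1
    apply Subtype.ext
    calc (t : G) = a * (a⁻¹ * t * a) * a⁻¹ := by group
      _ = 1 := by rw [h1]; group
  · calc a⁻¹ * t * a * r = a⁻¹ * ((t : G) * (a * r * a⁻¹)) * a := by group
      _ = a⁻¹ * ((a * r * a⁻¹) * t) * a := by rw [e1]
      _ = _ := by group

/-- the radical of `C(z)` -/
theorem radFree_cent_z [Finite G] (h : Chart Q z eta pi) (hco : IsSimpleGroup Co1)
    (hns : ¬ Group.IsSolvable Co1) : RadFree 5 ↥(centralizer ({z} : Set G)) := by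
  have : Finite Co1 := Finite.of_surjective pi h.pi_surj
  refine RadFree.of_surj Nat.prime_five pi h.pi_surj ?_ (RadFree.of_simple (by norm_num) hns)
  intro x hx hxo
  have h1 : (x : G) ∈ Q := (h.pi_eq_one x).1 hx
  refine not_dvd h Nat.prime_five (by decide) ?_
  rw [← hxo, ← Subgroup.orderOf_coe, ← Subgroup.orderOf_mk (x : G) h1]
  exact orderOf_dvd_natCard _

end chart

/-- the radical of a double cover -/
theorem radFree_cover {H K : Type*} [Group H] [Finite H] [Group K] [Finite K] (h : Cfsg.IsNonsplitDoubleCover H K)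
    (hK : RadFree 5 K) : RadFree 5 H := by
  obtain ⟨h2, ⟨e⟩, -⟩ := h
  refine RadFree.of_surj Nat.prime_five (e.toMonoidHom.comp (QuotientGroup.mk' (center H)))
    (e.surjective.comp (QuotientGroup.mk'_surjective _)) ?_ hK
  intro x hx hxo
  have h3 : x ∈ center H := by
    have h4 : e (QuotientGroup.mk' (center H) x) = 1 := hx
    rw [map_eq_one_iff e e.injective] at h4
    exact (QuotientGroup.eq_one_iff x).1 h4
  have h4 : 5 ∣ Nat.card ↥(center H) := by
    rw [← hxo, ← Subgroup.orderOf_mk x h3]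
    exact orderOf_dvd_natCard _
  rw [h2] at h4
  norm_num at h4

/-- the radical of the centralizer of a conjugate -/
theorem radFree_conj {G : Type*} [Group G] [Finite G] {a b g : G} (hg : g * a * g⁻¹ = b)
    (h : RadFree 5 ↥(centralizer ({a} : Set G))) : RadFree 5 ↥(centralizer ({b} : Set G)) := by
  have e : ↥(centralizer ({a} : Set G)) ≃* ↥(centralizer ({b} : Set G)) := by
    refine ((centralizer ({a} : Set G)).equivMapOfInjective (MulAut.conj g).toMonoidHom (MulAut.conj g).injective).trans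
      (MulEquiv.subgroupCongr ?_)
    rw [← hg]
    exact CpAutBig.CoZero.map_centralizer g a
  exact RadFree.congr Nat.prime_five e.symm h

theorem not_solvable_of_simple {S : Type*} [Group S] [Finite S] (hs : IsSimpleGroup S) (hp : ¬ (Nat.card S).Prime) :
    ¬ Group.IsSolvable S := by
  intro h1
  let _ : CommGroup S := { (inferInstance : Group S) with
    mul_comm := (IsSimpleGroup.comm_iff_isSolvable (G := S)).2 h1 }
  exact hp IsSimpleGroup.prime_card

section model

open Cfsg.Agent.MonsterX Cfsg.Agent.MonsterX.Model Cfsg.Agent.MonsterX.MainPack Cfsg.Agent.MonsterX.MainSimple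
  Cfsg.Agent.MonsterX.MainBasic
open Cfsg.Agent.MonsterU.Assembly Cfsg.Agent.MonsterP

/-- the involutions of the model -/
theorem radFree_inv (a : ↥InstData.M.G) (ha : a * a = 1) (ha1 : a ≠ 1) :
    RadFree 5 ↥(centralizer ({a} : Set ↥InstData.M.G)) := by
  have hfin := MFive.Row.finite_model
  have hfb := H546.MFiveFull.finite_b
  have hfc := CpAutBig.CoOneSeven.finite_co1
  rcases MFive.Row.two a ha ha1 with ⟨g, hg⟩ | ⟨g, hg⟩
  · refine radFree_conj hg (radFree_cent_z (KChart.chart KDone.lft MFive.Row.hc) Cfsg.Agent.S0399.result.1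
      (not_solvable_of_simple Cfsg.Agent.S0399.result.1 ?_))
    rw [Cfsg.Agent.S0399.result.2]
    norm_num
  · refine radFree_conj hg (radFree_cover (H546.MFiveFull.cover_t Uncond.all (NodesGrp.prel NodesU.hyp)
      (NodesNe.ne NodesU.hyp) NodesU.conj_ten Cfsg.Agent.S1704.result) ?_)
    have h1 : IsSimpleGroup Cfsg.Spor.BabyMonster := Cfsg.Agent.S1704.result.1
    refine RadFree.of_simple (by norm_num) (not_solvable_of_simple h1 ?_)
    rw [Cfsg.Agent.S1704.result.2]
    norm_num

/-- **No radical element of order 5 in the model of the Monster.** -/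
theorem false_model {r : ↥InstData.M.G} (hro : orderOf r = 5) (hrc : RC (MulAut.conj r)) : False := by
  have hfin := MFive.Row.finite_model
  have hpf : Fact (Nat.Prime 5) := ⟨Nat.prime_five⟩
  obtain ⟨t, htt, ht1, htr⟩ := exists_inv_chart (KChart.chart KDone.lft MFive.Row.hc) BpSpor.M5.trNe
    (CpAutBFive.Closed.coFive H546.MFiveFull.hJ) H546.MFiveFull.hJ CpAutBFive.Closed.hnEight BpSpor.M5.hasPair
    (CoFive.Ranks.wclassOf _) CoFive.Sylow.exists_four (BpSpor.M5.exists_k BpSpor.M5.hA) H546.MFiveFull.card_model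
    MFive.Row.center_model hro hrc
  refine false_of_comm hro hrc ?_ htr.symm (radFree_inv t htt ht1)
  rw [MFive.Row.center_model, mem_bot]
  exact ht1

/-- **The Monster has no radical element of order 5.** -/
theorem noRad_M_five {K : Type*} [Group K] [Finite K] (h : Cfsg.Spor.IsoM K) : Cfsg.Agent.H839.Rad.NoRad 5 K := by
  have hfin := MFive.Row.finite_model
  obtain ⟨e⟩ := h
  obtain ⟨f⟩ := MonsterP.Equiv.equiv
  exact NoRad.congr (e.trans f) fun x hx h1 _ => false_model hx h1

end model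

end Cfsg.Agent.H847.RadFive
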