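import Cfsg.Agent.H847.Avg
import Cfsg.Agent.H847.Co1Small
import Cfsg.Agent.Characters.DegreeBounds

/-!
# Irreducible representations (helper847)

* `irr_of` : irreducibility from invariant subspaces;
* `exists_fixed_of_quot` : a fixed vector outside of an invariant subspace with trivial quotient;
* `irr_co1` : a representation of `Co1` of degree `< 552` without fixed vectors is irreducible;
* `exists_irr` : a representation of a finite group with `ρ z ≠ 1` has an irreducible subrepresentation with `ρ z ≠ 1`,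
  if the group is simple.
-/

set_option autoImplicit false

namespace Cfsg.Agent.H847.Irr

open Module Cfsg Cfsg.Agent.H847.Avg

variable {K : Type*} [Group K] {W : Type*} [AddCommGroup W] [Module ℂ W]

/-- invariant subspaces -/
def Inv (R : K →* (W →ₗ[ℂ] W)) (U : Submodule ℂ W) : Prop := ∀ g, ∀ x ∈ U, R g x ∈ U

theorem irr_of (R : K →* (W →ₗ[ℂ] W)) (hne : ∃ x : W, x ≠ 0) (h : ∀ U, Inv R U → U = ⊥ ∨ U = ⊤) :
    Representation.IsIrreducible (k := ℂ) (R : Representation ℂ K W) := by
  have hb : (⊥ : Subrepresentation (R : Representation ℂ K W)).toSubmodule = ⊥ := rfl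
  have ht : (⊤ : Subrepresentation (R : Representation ℂ K W)).toSubmodule = ⊤ := rfl
  refine { exists_pair_ne := ⟨⊥, ⊤, ?_⟩, eq_bot_or_eq_top := ?_ }
  · intro e
    obtain ⟨x, hx⟩ := hne
    apply hx
    have h1 := congrArg Subrepresentation.toSubmodule e
    rw [hb, ht] at h1
    have h2 : x ∈ (⊤ : Submodule ℂ W) := trivial
    rw [← h1] at h2
    exact h2
  · intro S
    rcases h S.toSubmodule (fun g x hx => S.apply_mem_toSubmodule g hx) with h1 | h1
    · left; exact Subrepresentation.toSubmodule_injective (h1.trans hb.symm)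
    · right; exact Subrepresentation.toSubmodule_injective (h1.trans ht.symm)

theorem exists_fixed_of_quot [Finite K] (R : K →* (W →ₗ[ℂ] W)) {U : Submodule ℂ W} (hU : U ≠ ⊤)
    (ht : ∀ g x, R g x - x ∈ U) : ∃ x, x ∉ U ∧ ∀ g, R g x = x := by
  classical
  have : Fintype K := Fintype.ofFinite K
  obtain ⟨v, hv⟩ : ∃ v, v ∉ U := by
    by_contra hn
    push Not at hn
    exact hU (Submodule.eq_top_iff'.2 hn)
  refine ⟨avg R (fun _ => 1) v, fun hx => hv ?_, fun g => ?_⟩
  · have h1 : avg R (fun _ => 1) v - v ∈ U := by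
      have h2 : avg R (fun _ => 1) v - v = (Fintype.card K : ℂ)⁻¹ • ∑ g : K, (R g v - v) := by
        rw [avg_apply, Finset.sum_sub_distrib, smul_sub, Finset.sum_const, Finset.card_univ,
          ← Nat.cast_smul_eq_nsmul ℂ, smul_smul, inv_mul_cancel₀ (card_ne (A := K)), one_smul]
        congr 2
        exact Finset.sum_congr rfl fun g _ => one_smul _ _
      rw [h2]
      exact U.smul_mem _ (Submodule.sum_mem _ fun g _ => ht g v)
    have h3 := U.sub_mem hx h1
    rwa [sub_sub_cancel] at h3
  · have := apply_avg R (lin_one (A := K)) g v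
    rwa [one_smul] at this

/-- the restriction to an invariant subspace -/
def res (R : K →* (W →ₗ[ℂ] W)) {U : Submodule ℂ W} (hU : Inv R U) : K →* (U →ₗ[ℂ] U) where
  toFun g := (R g).restrict (hU g)
  map_one' := by
    ext x
    rw [LinearMap.restrict_coe_apply, map_one]
    rfl
  map_mul' a b := by
    ext x
    rw [LinearMap.restrict_coe_apply, map_mul]
    rfl

theorem res_apply (R : K →* (W →ₗ[ℂ] W)) {U : Submodule ℂ W} (hU : Inv R U) (g : K) (x : U) :
    ((res R hU g x : U) : W) = R g x := rfl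

/-- the representation on the quotient -/
def quo (R : K →* (W →ₗ[ℂ] W)) {U : Submodule ℂ W} (hU : Inv R U) : K →* ((W ⧸ U) →ₗ[ℂ] (W ⧸ U)) where
  toFun g := U.mapQ U (R g) (fun x hx => hU g x hx)
  map_one' := by
    ext x
    simp
  map_mul' a b := by
    ext x
    simp

theorem quo_apply (R : K →* (W →ₗ[ℂ] W)) {U : Submodule ℂ W} (hU : Inv R U) (g : K) (x : W) :
    quo R hU g (Submodule.Quotient.mk x) = Submodule.Quotient.mk (R g x) := rfl

/-- **Representations of `Co1` of degree `< 552` without fixed vectors are irreducible.** -/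
theorem irr_co1 [FiniteDimensional ℂ W] (R : Spor.Co1 →* (W →ₗ[ℂ] W)) (hd : finrank ℂ W < 552)
    (hfix : ∀ x, (∀ g, R g x = x) → x = 0) (U : Submodule ℂ W) (hU : Inv R U) : U = ⊥ ∨ U = ⊤ := by
  have : Finite Spor.Co1 := inferInstance
  by_cases h1 : finrank ℂ U < 276
  · left
    rw [Submodule.eq_bot_iff]
    intro x hx
    apply hfix
    intro g
    have h2 := Co1Small.trivial_of_lt (res R hU) h1 g
    have h3 := congrArg (fun f : U →ₗ[ℂ] U => ((f ⟨x, hx⟩ : U) : W)) h2
    exact h3
  · right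
    by_contra hne
    have h2 := Submodule.finrank_quotient_add_finrank U
    obtain ⟨x, hx, hxf⟩ := exists_fixed_of_quot R hne (fun g x => by
      have h3 := Co1Small.trivial_of_lt (quo R hU) (by omega) g
      have h4 := congrArg (fun f : (W ⧸ U) →ₗ[ℂ] (W ⧸ U) => f (Submodule.Quotient.mk x)) h3
      exact (Submodule.Quotient.eq U).1 h4)
    exact hx (by rw [hfix x hxf]; exact U.zero_mem)

/-- **An irreducible subrepresentation.** -/
theorem exists_irr [Finite K] [FiniteDimensional ℂ W] (R : K →* (W →ₗ[ℂ] W)) (hR : ∃ g, R g ≠ 1) :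
    ∃ (U : Submodule ℂ W) (hU : Inv R U), (∃ g, res R hU g ≠ 1) ∧
      ∀ U' : Submodule ℂ U, Inv (res R hU) U' → U' = ⊥ ∨ U' = ⊤ := by
  classical
  have : Fintype K := Fintype.ofFinite K
  let P : Submodule ℂ W → Prop := fun U => Inv R U ∧ ∃ g, ∃ x ∈ U, R g x ≠ x
  have hP : ∃ n, ∃ U, P U ∧ finrank ℂ U = n := by
    obtain ⟨g, hg⟩ := hR
    refine ⟨_, ⊤, ⟨fun _ _ _ => trivial, g, ?_⟩, rfl⟩
    by_contra hn
    push Not at hn
    apply hg
    ext x
    exact hn x trivial
  obtain ⟨U, ⟨hU, g0, x0, hx0, hg0⟩, hn⟩ := Nat.find_spec hP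
  have hmin : ∀ U', Inv R U' → U' < U → ∀ g, ∀ x ∈ U', R g x = x := by
    intro U' hI hlt g x hx
    by_contra hne
    have h1 := Nat.find_min' hP ⟨U', ⟨hI, g, x, hx, hne⟩, rfl⟩
    have h2 := Submodule.finrank_lt_finrank_of_lt hlt
    omega
  refine ⟨U, hU, ⟨g0, fun h => hg0 ?_⟩, ?_⟩
  · exact congrArg (fun f : U →ₗ[ℂ] U => ((f ⟨x0, hx0⟩ : U) : W)) h
  · intro U' hI
    by_contra hn
    push Not at hn
    obtain ⟨hbot, htop⟩ := hn
    obtain ⟨⟨a, haU⟩, haU', ha0⟩ := Submodule.exists_mem_ne_zero_of_ne_bot hbot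
    have ha0' : a ≠ 0 := fun h => ha0 (Subtype.ext h)
    -- `K` acts trivially on `U'`
    have hafix : ∀ g, R g a = a := by
      intro g
      have h1 : Inv R (U'.map U.subtype) := by
        rintro g _ ⟨x, hx, rfl⟩
        exact ⟨res R hU g x, hI g x hx, rfl⟩
      refine hmin (U'.map U.subtype) h1 ?_ g a ⟨⟨a, haU⟩, haU', rfl⟩
      rw [lt_iff_le_and_ne]
      refine ⟨Submodule.map_subtype_le U U', fun h2 => htop ?_⟩
      rw [eq_top_iff]
      rintro x -
      have h3 : (x : W) ∈ U'.map U.subtype := by rw [h2]; exact x.2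
      obtain ⟨y, hy, hyx⟩ := h3
      have : y = x := Subtype.ext hyx
      rwa [this] at hy
    -- the kernel of the average
    let A := avg R (fun _ => 1)
    have hA : ∀ g x, R g (A x) = A x := fun g x => by
      have := apply_avg R (lin_one (A := K)) g x
      rwa [one_smul] at this
    have hA' : ∀ g x, A (R g x) = A x := fun g x => by
      have := avg_apply' R (lin_one (A := K)) g x
      rwa [one_smul] at this
    have hfix : ∀ x, (∀ g, R g x = x) → A x = x := fun x hx =>
      avg_eq R (lin_one (A := K)) (fun b => by rw [hx b, one_smul])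
    have hAU : ∀ x ∈ U, A x ∈ U := by
      intro x hx
      show avg R (fun _ => 1) x ∈ U
      rw [avg_apply]
      exact U.smul_mem _ (Submodule.sum_mem _ fun g _ => U.smul_mem _ (hU g x hx))
    have hker : Inv R (U ⊓ LinearMap.ker A) := by
      rintro g x ⟨hx1, hx2⟩
      refine ⟨hU g x hx1, ?_⟩
      have hx3 : A x = 0 := hx2
      show A (R g x) = 0
      rw [hA', hx3]
    have hlt : U ⊓ LinearMap.ker A < U := by
      rw [lt_iff_le_and_ne]
      refine ⟨inf_le_left, fun h => ha0' ?_⟩
      have h1 : a ∈ U ⊓ LinearMap.ker A := by rw [h]; exact haU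
      have h2 : A a = 0 := h1.2
      rw [← h2, hfix a hafix]
    have hk := hmin _ hker hlt
    -- `x - A x` is in the kernel
    apply hg0
    have h1 : x0 - A x0 ∈ U ⊓ LinearMap.ker A := by
      refine ⟨U.sub_mem hx0 (hAU x0 hx0), ?_⟩
      show A (x0 - A x0) = 0
      rw [map_sub, hfix (A x0) (fun g => hA g x0), sub_self]
    have h2 : A (x0 - A x0) = x0 - A x0 := hfix _ (fun g => hk g _ h1)
    have h3 : A (x0 - A x0) = 0 := h1.2
    rw [h3] at h2
    have h4 : x0 = A x0 := (sub_eq_zero.1 h2.symm)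
    rw [h4]
    exact hA g0 x0

end Cfsg.Agent.H847.Irr
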