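import Mathlib

/-!
# "Lemma Y" (Hall-Higman made easy), for S4011

`A` a finite-dimensional algebra over an algebraically closed field `K`, `P ≤ Aˣ` a finite solvable group whose order is
invertible in `K`, `x ∈ Aˣ` of prime order `r ∤ |P|` normalising `P`.  If conjugation by `x` on `A` is killed by a
nonzero polynomial of degree `< r`, then `x` centralises `P` (`centralises`).
-/

set_option autoImplicit false
set_option linter.unusedSectionVars false

namespace Cfsg.Agent.H847.LemmaY

open Polynomial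

section Indep

variable {K : Type*} [Field K] {W : Type*} [AddCommGroup W] [Module K W]

/-- weight vectors with distinct weights: a separating operator -/
theorem exists_sep {G ι : Type*} (φ : G → (W →ₗ[K] W)) (v : ι → W) (χ : ι → G → K)
    (S : Set G) (hv : ∀ i, ∀ h ∈ S, φ h (v i) = χ i h • v i) (i : ι) [DecidableEq ι]
    (J : Finset ι) (hiJ : i ∉ J) (hsep : ∀ j ∈ J, ∃ h ∈ S, χ i h ≠ χ j h) :
    ∃ (Φ : W →ₗ[K] W) (c : ι → K), (∀ k, Φ (v k) = c k • v k) ∧ (∀ j ∈ J, c j = 0) ∧ c i ≠ 0 := by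
  induction J using Finset.induction_on with
  | empty => exact ⟨LinearMap.id, fun _ => 1, fun k => by simp, by simp, one_ne_zero⟩
  | insert j J hj ih =>
    obtain ⟨Φ, c, h1, h2, h3⟩ := ih (fun h => hiJ (Finset.mem_insert_of_mem h))
      (fun k hk => hsep k (Finset.mem_insert_of_mem hk))
    obtain ⟨h, hS, hne⟩ := hsep j (Finset.mem_insert_self j J)
    refine ⟨(φ h - χ j h • LinearMap.id).comp Φ, fun k => (χ k h - χ j h) * c k, ?_, ?_, ?_⟩
    · intro k
      simp only [LinearMap.comp_apply, LinearMap.sub_apply, LinearMap.smul_apply, LinearMap.id_apply, h1, map_smul,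
        hv k h hS]
      rw [← sub_smul, smul_smul, mul_comm]
    · intro k hk
      rcases Finset.mem_insert.1 hk with rfl | hk'
      · simp
      · simp [h2 k hk']
    · exact mul_ne_zero (sub_ne_zero.2 hne) h3

/-- a relation between weight vectors with distinct weights is trivial -/
theorem coeff_eq_zero {G : Type*} (φ : G → (W →ₗ[K] W)) (r : ℕ) (v : ℕ → W) (χ : ℕ → G → K)
    (S : Set G) (hv : ∀ i, ∀ h ∈ S, φ h (v i) = χ i h • v i) (hv0 : ∀ i, v i ≠ 0)
    (hsep : ∀ i < r, ∀ j < r, i ≠ j → ∃ h ∈ S, χ i h ≠ χ j h) (a : ℕ → K)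
    (h0 : ∑ i ∈ Finset.range r, a i • v i = 0) {i : ℕ} (hi : i < r) : a i = 0 := by
  classical
  obtain ⟨Φ, c, h1, h2, h3⟩ := exists_sep φ v χ S hv i ((Finset.range r).erase i) (by simp)
    (fun j hj => hsep i hi j (Finset.mem_range.1 (Finset.mem_of_mem_erase hj)) (Finset.ne_of_mem_erase hj).symm)
  have h4 := congrArg Φ h0
  rw [map_sum, map_zero, Finset.sum_eq_single i] at h4
  · rw [map_smul, h1, smul_smul] at h4
    rcases smul_eq_zero.1 h4 with h5 | h5
    · rcases mul_eq_zero.1 h5 with h6 | h6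
      · exact h6
      · exact absurd h6 h3
    · exact absurd h5 (hv0 i)
  · intro j hj hji
    rw [map_smul, h1, h2 j (Finset.mem_erase.2 ⟨hji, hj⟩), zero_smul, smul_zero]
  · intro h
    exact absurd (Finset.mem_range.2 hi) h

/-- the orbit of a weight vector under `T` is free if its weight is not `x`-invariant -/
theorem orbit_free {G : Type*} [Group G] (x : G) {r : ℕ} (hr : r.Prime) (hx : x ^ r = 1) (T : W →ₗ[K] W)
    (hT : Function.Injective T) (φ : G → (W →ₗ[K] W)) (S : Subgroup G) (hS : ∀ h ∈ S, x * h * x⁻¹ ∈ S)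
    (hφ : ∀ h ∈ S, ∀ w, T (φ h w) = φ (x * h * x⁻¹) (T w))
    (e : W) (he : e ≠ 0) (ψ : G → K) (hψ : ∀ h ∈ S, φ h e = ψ h • e) (hne : ∃ h ∈ S, ψ (x * h * x⁻¹) ≠ ψ h)
    (f : K[X]) (hf : f ≠ 0) (hd : f.natDegree < r) : aeval T f e ≠ 0 := by
  -- inverse conjugation
  have hpow : ∀ k : ℕ, ∀ h ∈ S, x ^ k * h * (x ^ k)⁻¹ ∈ S := by
    intro k
    induction k with
    | zero => intro h hh; simpa using hh
    | succ k ih =>
      intro h hh
      have := hS _ (ih h hh)
      have e1 : x ^ (k + 1) * h * (x ^ (k + 1))⁻¹ = x * (x ^ k * h * (x ^ k)⁻¹) * x⁻¹ := by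
        rw [pow_succ']; group
      rwa [e1]
  have hxr : x ^ (r - 1) = x⁻¹ := by
    rw [eq_inv_iff_mul_eq_one, ← pow_succ, Nat.sub_add_cancel hr.one_lt.le, hx]
  have hS' : ∀ h ∈ S, x⁻¹ * h * x ∈ S := by
    intro h hh
    have := hpow (r - 1) h hh
    rwa [hxr, inv_inv] at this
  have hpow' : ∀ k : ℕ, ∀ h ∈ S, (x ^ k)⁻¹ * h * x ^ k ∈ S := by
    intro k
    induction k with
    | zero => intro h hh; simpa using hh
    | succ k ih =>
      intro h hh
      have := hS' _ (ih h hh)
      have e1 : (x ^ (k + 1))⁻¹ * h * x ^ (k + 1) = x⁻¹ * ((x ^ k)⁻¹ * h * x ^ k) * x := by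
        rw [pow_succ]; group
      rwa [e1]
  have hv : ∀ i : ℕ, ∀ h ∈ S, φ h ((T ^ i) e) = ψ ((x ^ i)⁻¹ * h * x ^ i) • (T ^ i) e := by
    intro i
    induction i with
    | zero => intro h hh; simpa using hψ h hh
    | succ i ih =>
      intro h hh
      have h1 := ih _ (hS' h hh)
      have h2 := hφ _ (hS' h hh) ((T ^ i) e)
      have e0 : x * (x⁻¹ * h * x) * x⁻¹ = h := by group
      rw [e0, h1, map_smul] at h2
      have e1 : (x ^ (i + 1))⁻¹ * h * x ^ (i + 1) = (x ^ i)⁻¹ * (x⁻¹ * h * x) * x ^ i := by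
        rw [pow_succ']; group
      rw [e1, pow_succ', Module.End.mul_apply]
      exact h2.symm
  have hv0 : ∀ i : ℕ, (T ^ i) e ≠ 0 := by
    intro i
    induction i with
    | zero => simpa using he
    | succ i ih =>
      rw [pow_succ', Module.End.mul_apply]
      intro h
      exact ih (hT (h.trans (map_zero T).symm))
  have hper : ∀ k : ℕ, 0 < k → k < r → ∃ h ∈ S, ψ h ≠ ψ ((x ^ k)⁻¹ * h * x ^ k) := by
    intro k hk0 hkr
    by_contra hcon
    push Not at hcon
    obtain ⟨h, hh, hne⟩ := hne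
    apply hne
    have h1 : ∀ m : ℕ, ∀ h ∈ S, ψ h = ψ ((x ^ (k * m))⁻¹ * h * x ^ (k * m)) := by
      intro m
      induction m with
      | zero => intro h _; simp
      | succ m ih =>
        intro h hh
        rw [ih h hh, hcon _ (hpow' (k * m) h hh)]
        congr 1
        rw [Nat.mul_succ, pow_add]
        group
    have hcop : Nat.Coprime k r :=
      ((Nat.Prime.coprime_iff_not_dvd hr).2 (Nat.not_dvd_of_pos_of_lt hk0 hkr)).symm
    obtain ⟨m, hm⟩ := Nat.exists_mul_mod_eq_one_of_coprime hcop hr.one_lt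
    have hxm : x ^ (k * m) = x := by
      rw [← Nat.div_add_mod (k * m) r, hm.2, pow_add, pow_mul, hx, one_pow, one_mul, pow_one]
    have h2 := h1 m _ (hS h hh)
    rw [hxm] at h2
    rw [h2]
    congr 1
    group
  have hdist : ∀ i j : ℕ, i < j → j < r → ∃ h ∈ S, ψ ((x ^ i)⁻¹ * h * x ^ i) ≠ ψ ((x ^ j)⁻¹ * h * x ^ j) := by
    intro i j hij hj
    obtain ⟨h, hh, hne'⟩ := hper (j - i) (by omega) (by omega)
    refine ⟨x ^ i * h * (x ^ i)⁻¹, hpow i h hh, ?_⟩
    have e1 : (x ^ i)⁻¹ * (x ^ i * h * (x ^ i)⁻¹) * x ^ i = h := by group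
    have e2 : (x ^ j)⁻¹ * (x ^ i * h * (x ^ i)⁻¹) * x ^ j = (x ^ (j - i))⁻¹ * h * x ^ (j - i) := by
      have e3 : x ^ j = x ^ i * x ^ (j - i) := by rw [← pow_add]; congr 1; omega
      rw [e3]
      group
    rw [e1, e2]
    exact hne'
  intro h0
  apply hf
  rw [aeval_eq_sum_range' hd T, LinearMap.sum_apply] at h0
  have h1 : ∀ i < r, f.coeff i = 0 := by
    intro i hi
    refine coeff_eq_zero φ r (fun i => (T ^ i) e) (fun i h => ψ ((x ^ i)⁻¹ * h * x ^ i)) (S : Set G)
      (fun i h hh => hv i h hh) hv0 ?_ (fun i => f.coeff i) ?_ hi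
    · intro i hi j hj hij
      rcases lt_or_gt_of_ne hij with h2 | h2
      · exact hdist i j h2 hj
      · obtain ⟨h, hh, h3⟩ := hdist j i h2 hi
        exact ⟨h, hh, h3.symm⟩
    · exact h0
  ext i
  rw [coeff_zero]
  rcases lt_or_ge i r with h2 | h2
  · exact h1 i h2
  · exact coeff_eq_zero_of_natDegree_lt (lt_of_lt_of_le hd h2)

end Indep

section Weights

variable {K : Type*} [Field K] [IsAlgClosed K]

/-- commuting operators preserving a nonzero subspace have a common eigenvector in it -/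
theorem exists_common {V : Type*} [AddCommGroup V] [Module K V] [FiniteDimensional K V] {ι : Type*}
    (φ : ι → (V →ₗ[K] V)) (hc : ∀ i j v, φ i (φ j v) = φ j (φ i v)) :
    ∀ (n : ℕ) (U : Submodule K V), Module.finrank K U = n → U ≠ ⊥ → (∀ i, ∀ u ∈ U, φ i u ∈ U) →
      ∃ v ∈ U, v ≠ 0 ∧ ∀ i, ∃ c : K, φ i v = c • v := by
  intro n
  induction n using Nat.strong_induction_on with
  | _ n ih =>
    intro U hn hU hUi
    by_cases hsc : ∀ i, ∃ c : K, ∀ u ∈ U, φ i u = c • u
    · obtain ⟨v, hv, hv0⟩ := Submodule.exists_mem_ne_zero_of_ne_bot hU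
      exact ⟨v, hv, hv0, fun i => (hsc i).imp fun c h => h v hv⟩
    · push Not at hsc
      obtain ⟨i, hi⟩ := hsc
      have hnt : Nontrivial U := Submodule.nontrivial_iff_ne_bot.2 hU
      obtain ⟨c, hc'⟩ := Module.End.exists_eigenvalue ((φ i).restrict (hUi i))
      obtain ⟨u, hu⟩ := hc'.exists_hasEigenvector
      have hu1 : φ i (u : V) = c • (u : V) := congrArg Subtype.val hu.apply_eq_smul
      have hu0 : (u : V) ≠ 0 := fun h => hu.2 (Subtype.ext h)
      set U' : Submodule K V := U ⊓ LinearMap.ker (φ i - c • LinearMap.id) with hU'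
      have hmem : ∀ w, w ∈ U' ↔ w ∈ U ∧ φ i w = c • w := by
        intro w
        rw [hU', Submodule.mem_inf, LinearMap.mem_ker, LinearMap.sub_apply, LinearMap.smul_apply, LinearMap.id_apply,
          sub_eq_zero]
      have hlt : U' < U := by
        refine lt_of_le_of_ne inf_le_left fun h => ?_
        obtain ⟨w, hw, hne⟩ := hi c
        rw [← h] at hw
        exact hne ((hmem w).1 hw).2
      obtain ⟨v, hv, hv0, hv1⟩ := ih _ (hn ▸ Submodule.finrank_lt_finrank_of_lt hlt) U' rfl
        (fun h => hu0 (by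
          have : (u : V) ∈ U' := (hmem _).2 ⟨u.2, hu1⟩
          rw [h] at this
          exact (Submodule.mem_bot K).1 this))
        (by
          intro j w hw
          rw [hmem] at hw ⊢
          exact ⟨hUi j w hw.1, by rw [hc, hw.2, map_smul]⟩)
      exact ⟨v, hlt.le hv, hv0, hv1⟩

variable {A : Type*} [Ring A] [Algebra K A] [FiniteDimensional K A]

/-- a weight vector in `A` for a finite abelian subgroup of `Aˣ`, non-trivial on a given element -/
theorem exists_weight (Z : Subgroup Aˣ) [Finite Z] (hZ : ∀ a ∈ Z, ∀ b ∈ Z, a * b = b * a)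
    (hK : (Nat.card Z : K) ≠ 0) (c : Aˣ) (hc : c ∈ Z) (hc1 : c ≠ 1) :
    ∃ (χ : Aˣ → K) (e : A), e ≠ 0 ∧ (∀ z ∈ Z, (z : A) * e = χ z • e) ∧ χ c ≠ 1 ∧
      ∀ y : Aˣ, (∀ z ∈ Z, y * z = z * y) → (y : A) * e = e * y := by
  classical
  have : Fintype Z := Fintype.ofFinite _
  set U : Submodule K A := LinearMap.range (LinearMap.mulLeft K ((c : A) - 1)) with hU
  have hU0 : U ≠ ⊥ := by
    intro h
    have h1 : ((c : A) - 1) * 1 ∈ U := ⟨1, rfl⟩
    rw [h, Submodule.mem_bot, mul_one, sub_eq_zero] at h1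
    exact hc1 (Units.ext h1)
  obtain ⟨v, hv, hv0, hv1⟩ := exists_common (K := K) (fun z : Z => LinearMap.mulLeft K (((z : Aˣ) : A))) (by
    intro a b w
    simp only [LinearMap.mulLeft_apply]
    rw [← mul_assoc, ← mul_assoc, ← Units.val_mul, ← Units.val_mul, hZ a a.2 b b.2]) _ U rfl hU0 (by
    rintro z _ ⟨a, rfl⟩
    refine ⟨((z : Aˣ) : A) * a, ?_⟩
    simp only [LinearMap.mulLeft_apply]
    have h1 : (c : A) * ((z : Aˣ) : A) = ((z : Aˣ) : A) * c := by
      rw [← Units.val_mul, ← Units.val_mul, hZ c hc z z.2]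
    rw [sub_mul, one_mul, ← mul_assoc, h1, sub_mul, one_mul, mul_sub, mul_assoc])
  have hv2 : ∀ z : Aˣ, ∃ k : K, z ∈ Z → (z : A) * v = k • v := by
    intro z
    by_cases hz : z ∈ Z
    · obtain ⟨k, hk⟩ := hv1 ⟨z, hz⟩
      exact ⟨k, fun _ => hk⟩
    · exact ⟨0, fun h => absurd h hz⟩
  choose χ hχ using hv2
  have hmul : ∀ a ∈ Z, ∀ b ∈ Z, χ (a * b) = χ a * χ b := by
    intro a ha b hb
    have h1 := hχ (a * b) (Z.mul_mem ha hb)
    rw [Units.val_mul, mul_assoc, hχ b hb, mul_smul_comm, hχ a ha, smul_smul] at h1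
    have h2 : (χ b * χ a - χ (a * b)) • v = 0 := by rw [sub_smul, h1, sub_self]
    rcases smul_eq_zero.1 h2 with h3 | h3
    · rw [← sub_eq_zero.1 h3, mul_comm]
    · exact absurd h3 hv0
  have hone : χ 1 = 1 := by
    have h1 := hχ 1 Z.one_mem
    rw [Units.val_one, one_mul] at h1
    have h2 : (1 - χ 1) • v = 0 := by rw [sub_smul, one_smul, ← h1, sub_self]
    rcases smul_eq_zero.1 h2 with h3 | h3
    · exact (sub_eq_zero.1 h3).symm
    · exact absurd h3 hv0
  set e : A := ∑ z : Z, χ ((z : Aˣ)⁻¹) • ((z : Aˣ) : A) with he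
  have hev : e * v = (Nat.card Z : K) • v := by
    rw [he, Finset.sum_mul]
    have h1 : ∀ z : Z, χ ((z : Aˣ)⁻¹) • ((z : Aˣ) : A) * v = v := by
      intro z
      rw [smul_mul_assoc, hχ z z.2, smul_smul, ← hmul _ (Z.inv_mem z.2) _ z.2, inv_mul_cancel, hone, one_smul]
    rw [Finset.sum_congr rfl fun z _ => h1 z, Finset.sum_const, Finset.card_univ, Nat.card_eq_fintype_card,
      Nat.cast_smul_eq_nsmul]
  have he0 : e ≠ 0 := by
    intro h
    rw [h, zero_mul] at hev
    rcases smul_eq_zero.1 hev.symm with h3 | h3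
    · exact hK h3
    · exact hv0 h3
  refine ⟨χ, e, he0, ?_, ?_, ?_⟩
  · intro z0 hz0
    rw [he, Finset.mul_sum, Finset.smul_sum]
    refine Fintype.sum_equiv (Equiv.mulLeft (⟨z0, hz0⟩ : Z)) _ _ fun z => ?_
    simp only [Equiv.coe_mulLeft, Subgroup.coe_mul]
    rw [mul_smul_comm, smul_smul, ← Units.val_mul, mul_inv_rev, hmul _ (Z.inv_mem z.2) _ (Z.inv_mem hz0), mul_comm,
      mul_assoc, ← hmul _ (Z.inv_mem hz0) _ hz0, inv_mul_cancel, hone, mul_one]
  · intro h1
    obtain ⟨a, ha⟩ := hv
    rw [LinearMap.mulLeft_apply] at ha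
    have h2 : (c : A) * v = v := by rw [hχ c hc, h1, one_smul]
    set m := orderOf c with hm
    have h3 : ∀ i : ℕ, ((c : A)) ^ i * v = v := by
      intro i
      induction i with
      | zero => simp
      | succ i ih => rw [pow_succ, mul_assoc, h2, ih]
    have h4 : (∑ i ∈ Finset.range m, (c : A) ^ i) * v = (m : K) • v := by
      rw [Finset.sum_mul, Finset.sum_congr rfl fun i _ => h3 i, Finset.sum_const, Finset.card_range,
        Nat.cast_smul_eq_nsmul]
    have h5 : (∑ i ∈ Finset.range m, (c : A) ^ i) * v = 0 := by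
      rw [← ha, ← mul_assoc, geom_sum_mul, ← Units.val_pow_eq_pow_val, hm, pow_orderOf_eq_one, Units.val_one, sub_self,
        zero_mul]
    rw [h5] at h4
    rcases smul_eq_zero.1 h4.symm with h6 | h6
    · apply hK
      have h7 : m ∣ Nat.card Z := by
        have := orderOf_dvd_natCard (⟨c, hc⟩ : Z)
        rwa [Subgroup.orderOf_mk] at this
      obtain ⟨k, hk⟩ := h7
      rw [hk, Nat.cast_mul, h6, zero_mul]
    · exact hv0 h6
  · intro y hy
    rw [he, Finset.mul_sum, Finset.sum_mul]
    refine Finset.sum_congr rfl fun z _ => ?_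
    rw [mul_smul_comm, smul_mul_assoc, ← Units.val_mul, ← Units.val_mul, hy z z.2]

end Weights

section Main

/-- conjugation by a unit, as a linear map -/
def Ad (K : Type*) [Field K] {A : Type*} [Ring A] [Algebra K A] (x : Aˣ) : A →ₗ[K] A :=
  (LinearMap.mulLeft K (x : A)).comp (LinearMap.mulRight K ((x⁻¹ : Aˣ) : A))

theorem Ad_apply {K : Type*} [Field K] {A : Type*} [Ring A] [Algebra K A] (x : Aˣ) (a : A) :
    Ad K x a = x * (a * ((x⁻¹ : Aˣ) : A)) := rfl

theorem Ad_injective {K : Type*} [Field K] {A : Type*} [Ring A] [Algebra K A] (x : Aˣ) :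
    Function.Injective (Ad K x) := by
  intro a b h
  rw [Ad_apply, Ad_apply] at h
  have h1 := congrArg (fun t => ((x⁻¹ : Aˣ) : A) * t * (x : A)) h
  simpa [mul_assoc] using h1

/-- **Lemma Y** -/
theorem centralises {K : Type*} [Field K] [IsAlgClosed K] {A : Type*} [Ring A] [Algebra K A] [FiniteDimensional K A]
    (x : Aˣ) {r : ℕ} (hr : r.Prime) (hx : x ^ r = 1)
    (f : K[X]) (hf : f ≠ 0) (hd : f.natDegree < r) (hAd : aeval (Ad K x) f = 0) :
    ∀ (n : ℕ) (P : Subgroup Aˣ), Nat.card P = n → Finite P → Group.IsSolvable P → (Nat.card P : K) ≠ 0 →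
      ¬ r ∣ Nat.card P → (∀ g ∈ P, x * g * x⁻¹ ∈ P) → ∀ g ∈ P, x * g * x⁻¹ = g := by
  intro n
  induction n using Nat.strong_induction_on with
  | _ n ih =>
    intro P hn hfin hs hK hrP hxP
    -- smaller invariant subgroups are centralised
    have hsmall : ∀ Q : Subgroup Aˣ, Q ≤ P → Q ≠ P → (∀ g ∈ Q, x * g * x⁻¹ ∈ Q) → ∀ g ∈ Q, x * g * x⁻¹ = g := by
      intro Q hQP hne hxQ
      have hQf : Finite Q := Finite.of_injective _ (Subgroup.inclusion_injective hQP)
      have hdv := Subgroup.card_dvd_of_le hQP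
      have hlt : Nat.card Q < n := by
        rw [← hn]
        refine lt_of_le_of_ne (Nat.le_of_dvd Nat.card_pos hdv) fun h => hne ?_
        exact Subgroup.eq_of_le_of_card_ge hQP h.ge
      refine ih _ hlt Q rfl hQf ?_ ?_ (fun h => hrP (h.trans hdv)) hxQ
      · exact Group.isSolvable_of_isSolvable_injective (f := Subgroup.inclusion hQP) (Subgroup.inclusion_injective hQP)
      · intro h
        obtain ⟨k, hk⟩ := hdv
        apply hK
        rw [hk, Nat.cast_mul, h, zero_mul]
    have hxr : x ^ (r - 1) = x⁻¹ := by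
      rw [eq_inv_iff_mul_eq_one, ← pow_succ, Nat.sub_add_cancel hr.one_lt.le, hx]
    have hinv : ∀ Q : Subgroup Aˣ, (∀ g ∈ Q, x * g * x⁻¹ ∈ Q) → ∀ g ∈ Q, x⁻¹ * g * x ∈ Q := by
      intro Q hQ
      have hpow : ∀ k : ℕ, ∀ h ∈ Q, x ^ k * h * (x ^ k)⁻¹ ∈ Q := by
        intro k
        induction k with
        | zero => intro h hh; simpa using hh
        | succ k ih' =>
          intro h hh
          have := hQ _ (ih' h hh)
          have e1 : x ^ (k + 1) * h * (x ^ (k + 1))⁻¹ = x * (x ^ k * h * (x ^ k)⁻¹) * x⁻¹ := by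
            rw [pow_succ']; group
          rwa [e1]
      intro g hg
      have := hpow (r - 1) g hg
      rwa [hxr, inv_inv] at this
    by_contra hcon
    -- Step 1: `P` is generated by the commutators with `x`
    obtain ⟨w, hw⟩ : ∃ w : Aˣ → Aˣ, ∀ g, w g = x * g * x⁻¹ * g⁻¹ := ⟨_, fun _ => rfl⟩
    have hwP : ∀ g ∈ P, w g ∈ P := fun g hg => by
      rw [hw]
      exact P.mul_mem (hxP g hg) (P.inv_mem hg)
    have hQ : Subgroup.closure (w '' (P : Set Aˣ)) = P := by
      by_contra hne
      have hle : Subgroup.closure (w '' (P : Set Aˣ)) ≤ P := by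
        rw [Subgroup.closure_le]
        rintro _ ⟨g, hg, rfl⟩
        exact hwP g hg
      have hinvQ : ∀ g ∈ Subgroup.closure (w '' (P : Set Aˣ)), x * g * x⁻¹ ∈ Subgroup.closure (w '' (P : Set Aˣ)) := by
        intro g hg
        induction hg using Subgroup.closure_induction with
        | mem g hg =>
          obtain ⟨h, hh, rfl⟩ := hg
          refine Subgroup.subset_closure ⟨x * h * x⁻¹, hxP h hh, ?_⟩
          simp only [hw]
          group
        | one => simp
        | mul a b _ _ ha hb =>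
          have := Subgroup.mul_mem _ ha hb
          have e1 : x * a * x⁻¹ * (x * b * x⁻¹) = x * (a * b) * x⁻¹ := by group
          rwa [e1] at this
        | inv a _ ha =>
          have := Subgroup.inv_mem _ ha
          have e1 : (x * a * x⁻¹)⁻¹ = x * a⁻¹ * x⁻¹ := by group
          rwa [e1] at this
      have h1 := hsmall _ hle hne hinvQ
      apply hcon
      intro g hg
      have h2 : x * w g * x⁻¹ = w g := h1 _ (Subgroup.subset_closure ⟨g, hg, rfl⟩)
      have h2' : x * w g = w g * x := mul_inv_eq_iff_eq_mul.1 h2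
      have h3 : x * g * x⁻¹ = w g * g := by simp only [hw]; group
      have h4 : ∀ k : ℕ, x ^ k * g * (x ^ k)⁻¹ = (w g) ^ k * g := by
        intro k
        induction k with
        | zero => simp
        | succ k ihk =>
          have e1 : x ^ (k + 1) * g * (x ^ (k + 1))⁻¹ = x * (x ^ k * g * (x ^ k)⁻¹) * x⁻¹ := by
            rw [pow_succ']; group
          have hc : Commute x (w g ^ k) := (show Commute x (w g) from h2').pow_right k
          have e2 : x * (w g ^ k * g) * x⁻¹ = w g ^ k * (x * g * x⁻¹) := by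
            rw [← mul_assoc, hc.eq]; group
          rw [e1, ihk, e2, h3, pow_succ, mul_assoc]
      have h5 := h4 r
      rw [hx, one_mul, inv_one, mul_one] at h5
      have h6 : (w g) ^ r = 1 := by
        have := congrArg (fun t => t * g⁻¹) h5
        simpa using this.symm
      have h7 : orderOf (w g) ∣ Nat.card P := by
        have := orderOf_dvd_natCard (⟨w g, hwP g hg⟩ : P)
        rwa [Subgroup.orderOf_mk] at this
      have h8 : orderOf (w g) = 1 := by
        rcases (Nat.dvd_prime hr).1 (orderOf_dvd_of_pow_eq_one h6) with h | h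
        · exact h
        · exact absurd (h ▸ h7) hrP
      rw [h3, orderOf_eq_one_iff.1 h8, one_mul]
    -- Step 2: the derived subgroup is central
    have hPnt : Nontrivial P := by
      by_contra h
      rw [not_nontrivial_iff_subsingleton] at h
      apply hcon
      intro g hg
      have : g = 1 := congrArg Subtype.val (Subsingleton.elim (⟨g, hg⟩ : P) 1)
      rw [this]; simp
    have hDle : ⁅P, P⁆ ≤ P := Subgroup.commutator_le_self P
    have hDne : ⁅P, P⁆ ≠ P := by
      intro h
      have h1 : commutator P = ⊤ := by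
        apply Subgroup.map_injective P.subtype_injective
        rw [commutator_def, Subgroup.map_commutator, ← MonoidHom.range_eq_map, Subgroup.range_subtype]
        exact h
      exact absurd h1 (Group.IsSolvable.commutator_lt_top_of_nontrivial P).ne
    have hDc : ∀ c ∈ ⁅P, P⁆, x * c * x⁻¹ = c := by
      refine hsmall _ hDle hDne ?_
      intro g hg
      have h1 : P.map (MulAut.conj x).toMonoidHom ≤ P := by
        rintro _ ⟨g, hg, rfl⟩
        exact hxP g hg
      have h2 : (⁅P, P⁆).map (MulAut.conj x).toMonoidHom ≤ ⁅P, P⁆ := by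
        rw [Subgroup.map_commutator]
        exact Subgroup.commutator_mono h1 h1
      exact h2 ⟨g, hg, rfl⟩
    have hDn : ∀ c ∈ ⁅P, P⁆, ∀ g ∈ P, g⁻¹ * c * g ∈ ⁅P, P⁆ := by
      intro c hc g hg
      have h1 : P.map (MulAut.conj g⁻¹).toMonoidHom ≤ P := by
        rintro _ ⟨a, ha, rfl⟩
        have := P.mul_mem (P.mul_mem (P.inv_mem hg) ha) hg
        simpa using this
      have h2 : (⁅P, P⁆).map (MulAut.conj g⁻¹).toMonoidHom ≤ ⁅P, P⁆ := by
        rw [Subgroup.map_commutator]
        exact Subgroup.commutator_mono h1 h1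
      have := h2 ⟨c, hc, rfl⟩
      simpa using this
    have hDz : ∀ c ∈ ⁅P, P⁆, ∀ g ∈ P, c * g = g * c := by
      intro c hc
      have h1 : P ≤ Subgroup.centralizer ({c} : Set Aˣ) := by
        conv_lhs => rw [← hQ]
        rw [Subgroup.closure_le]
        rintro _ ⟨g, hg, rfl⟩
        rw [SetLike.mem_coe, Subgroup.mem_centralizer_singleton_iff]
        have a1 : x * (g⁻¹ * c * g) * x⁻¹ = g⁻¹ * c * g := hDc _ (hDn c hc g hg)
        have a2 : x * c * x⁻¹ = c := hDc c hc
        rw [hw]
        have a3 : x⁻¹ * (g⁻¹ * c * g) = (g⁻¹ * c * g) * x⁻¹ := by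
          have : x⁻¹ * (x * (g⁻¹ * c * g) * x⁻¹) = x⁻¹ * (g⁻¹ * c * g) := by rw [a1]
          rw [← this]; group
        calc x * g * x⁻¹ * g⁻¹ * c = x * g * (x⁻¹ * (g⁻¹ * c * g)) * g⁻¹ := by group
          _ = (x * c * x⁻¹) * (x * g * x⁻¹ * g⁻¹) := by rw [a3]; group
          _ = c * (x * g * x⁻¹ * g⁻¹) := by rw [a2]
      intro g hg
      have := Subgroup.mem_centralizer_singleton_iff.1 (h1 hg)
      exact this.symm
    have hfree := orbit_free (K := K) (W := A) x hr hx (Ad K x) (Ad_injective x)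
    by_cases hab : ∀ a ∈ P, ∀ b ∈ P, a * b = b * a
    · -- abelian case
      push Not at hcon
      obtain ⟨g0, hg0, hne⟩ := hcon
      have hw1 : w g0 ≠ 1 := by
        intro h
        apply hne
        simp only [hw] at h
        exact mul_inv_eq_one.1 h
      obtain ⟨χ, e, he, hz, hχ, -⟩ := exists_weight (K := K) P hab hK (w g0) (hwP g0 hg0) hw1
      refine hfree (fun h => LinearMap.mulLeft K (h : A)) P hxP ?_ e he χ ?_ ⟨g0, hg0, ?_⟩ f hf hd (by rw [hAd]; rfl)
      · intro h _ a
        simp only [LinearMap.mulLeft_apply, Ad_apply, Units.val_mul]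
        simp [mul_assoc]
      · intro h hh
        exact hz h hh
      · intro h
        apply hχ
        have h1 := hz _ (hxP g0 hg0)
        have h2 := hz g0 hg0
        have h3 := hz _ (hwP g0 hg0)
        have h4 : ((x * g0 * x⁻¹ : Aˣ) : A) * e = χ (w g0) • χ g0 • e := by
          have e1 : x * g0 * x⁻¹ = g0 * w g0 := by
            rw [hab g0 hg0 _ (hwP g0 hg0)]
            rw [hw]; group
          rw [e1, Units.val_mul, mul_assoc, h3, mul_smul_comm, h2]
        rw [h1, h, smul_smul] at h4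
        have h5 : (χ (w g0) * χ g0 - χ g0) • e = 0 := by rw [sub_smul, ← h4, sub_self]
        rcases smul_eq_zero.1 h5 with h6 | h6
        · have h7 : χ g0 ≠ 0 := by
            intro h7
            rw [h7, zero_smul] at h2
            have := congrArg (fun t => ((g0⁻¹ : Aˣ) : A) * t) h2
            simp at this
            exact he this
          have h8 : (χ (w g0) - 1) * χ g0 = 0 := by rw [sub_mul, one_mul]; exact h6
          rcases mul_eq_zero.1 h8 with h9 | h9
          · exact sub_eq_zero.1 h9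
          · exact absurd h9 h7
        · exact absurd h6 he
    · -- non-abelian case
      set Z : Subgroup Aˣ := P ⊓ Subgroup.centralizer (P : Set Aˣ) with hZdef
      have hZm : ∀ z, z ∈ Z ↔ z ∈ P ∧ ∀ g ∈ P, g * z = z * g := by
        intro z
        rw [hZdef, Subgroup.mem_inf, Subgroup.mem_centralizer_iff]
        exact Iff.rfl
      have hDZ : ∀ c ∈ ⁅P, P⁆, c ∈ Z := fun c hc => (hZm c).2 ⟨hDle hc, fun g hg => (hDz c hc g hg).symm⟩
      have hZP : Z ≤ P := inf_le_left
      have hZne : Z ≠ P := by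
        intro h
        apply hab
        intro a ha b hb
        rw [← h] at hb
        exact ((hZm b).1 hb).2 a ha
      have hZx : ∀ z ∈ Z, x * z * x⁻¹ = z := by
        refine hsmall Z hZP hZne ?_
        intro z hz
        rw [hZm] at hz ⊢
        refine ⟨hxP z hz.1, fun g hg => ?_⟩
        have h1 := hz.2 _ (hinv P hxP g hg)
        have h2 := congrArg (fun t => x * t * x⁻¹) h1
        calc g * (x * z * x⁻¹) = x * (x⁻¹ * g * x * z) * x⁻¹ := by group
          _ = x * (z * (x⁻¹ * g * x)) * x⁻¹ := h2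
          _ = x * z * x⁻¹ * g := by group
      have hZf : Finite Z := Finite.of_injective _ (Subgroup.inclusion_injective hZP)
      have hZK : (Nat.card Z : K) ≠ 0 := by
        intro h
        obtain ⟨k, hk⟩ := Subgroup.card_dvd_of_le hZP
        apply hK
        rw [hk, Nat.cast_mul, h, zero_mul]
      have hcD : ∀ a ∈ P, ∀ b ∈ P, a * b * a⁻¹ * b⁻¹ ∈ ⁅P, P⁆ := fun a ha b hb => Subgroup.commutator_mem_commutator ha hb
      have hcm : ∀ h ∈ P, ∀ u ∈ P, ∀ v ∈ P,
          h * (u * v) * h⁻¹ * (u * v)⁻¹ = (h * u * h⁻¹ * u⁻¹) * (h * v * h⁻¹ * v⁻¹) := by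
        intro h hh u hu v hv
        have h1 := hDz _ (hcD h hh v hv) u hu
        calc h * (u * v) * h⁻¹ * (u * v)⁻¹ = (h * u * h⁻¹) * ((h * v * h⁻¹ * v⁻¹) * u⁻¹) := by group
          _ = (h * u * h⁻¹) * (u⁻¹ * (h * v * h⁻¹ * v⁻¹)) := by
            congr 1
            have := congrArg (fun t => u⁻¹ * t * u⁻¹) h1
            calc (h * v * h⁻¹ * v⁻¹) * u⁻¹ = u⁻¹ * (u * (h * v * h⁻¹ * v⁻¹)) * u⁻¹ := by group
              _ = u⁻¹ * ((h * v * h⁻¹ * v⁻¹) * u) * u⁻¹ := this.symm
              _ = u⁻¹ * (h * v * h⁻¹ * v⁻¹) := by group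
          _ = (h * u * h⁻¹ * u⁻¹) * (h * v * h⁻¹ * v⁻¹) := by group
      push Not at hab
      obtain ⟨a0, ha0, b0, hb0, hab0⟩ := hab
      have hc0 : a0 * b0 * a0⁻¹ * b0⁻¹ ≠ 1 := by
        intro h
        apply hab0
        have := congrArg (fun t => t * (b0 * a0)) h
        simpa [mul_assoc] using this
      obtain ⟨χ, e, he, hz, hχ, hcomm⟩ := exists_weight (K := K) Z
        (fun a ha b hb => ((hZm b).1 hb).2 a (hZP ha)) hZK _ (hDZ _ (hcD a0 ha0 b0 hb0)) hc0
      have hmul : ∀ a ∈ Z, ∀ b ∈ Z, χ (a * b) = χ a * χ b := by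
        intro a ha b hb
        have h1 := hz (a * b) (Z.mul_mem ha hb)
        rw [Units.val_mul, mul_assoc, hz b hb, mul_smul_comm, hz a ha, smul_smul] at h1
        have h2 : (χ b * χ a - χ (a * b)) • e = 0 := by rw [sub_smul, h1, sub_self]
        rcases smul_eq_zero.1 h2 with h3 | h3
        · rw [← sub_eq_zero.1 h3, mul_comm]
        · exact absurd h3 he
      have hnz : ∀ a ∈ Z, χ a ≠ 0 := by
        intro a ha h0
        have h1 := hz a ha
        rw [h0, zero_smul] at h1
        have := congrArg (fun t => ((a⁻¹ : Aˣ) : A) * t) h1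
        simp at this
        exact he this
      have hone : χ 1 = 1 := by
        have h1 := hmul 1 Z.one_mem 1 Z.one_mem
        rw [mul_one] at h1
        exact (mul_eq_left₀ (hnz 1 Z.one_mem)).1 h1.symm
      -- a commutator with some `w g` is seen by `χ`
      have hex : ∃ h ∈ P, ∃ g ∈ P, χ (h * w g * h⁻¹ * (w g)⁻¹) ≠ 1 := by
        by_contra hno
        push Not at hno
        have hall : ∀ u ∈ Subgroup.closure (w '' (P : Set Aˣ)), u ∈ P ∧ ∀ h ∈ P, χ (h * u * h⁻¹ * u⁻¹) = 1 := by
          intro u hu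
          induction hu using Subgroup.closure_induction with
          | mem u hu =>
            obtain ⟨g, hg, rfl⟩ := hu
            exact ⟨hwP g hg, fun h hh => hno h hh g hg⟩
          | one => exact ⟨P.one_mem, fun h hh => by simpa using hone⟩
          | mul a b _ _ ha hb =>
            refine ⟨P.mul_mem ha.1 hb.1, fun h hh => ?_⟩
            rw [hcm h hh a ha.1 b hb.1, hmul _ (hDZ _ (hcD h hh a ha.1)) _ (hDZ _ (hcD h hh b hb.1)), ha.2 h hh,
              hb.2 h hh, mul_one]
          | inv a _ ha =>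
            refine ⟨P.inv_mem ha.1, fun h hh => ?_⟩
            have h1 := hcm h hh a ha.1 a⁻¹ (P.inv_mem ha.1)
            rw [mul_inv_cancel, mul_one, mul_inv_cancel, inv_one, mul_one] at h1
            have h2 := hmul _ (hDZ _ (hcD h hh a ha.1)) _ (hDZ _ (hcD h hh a⁻¹ (P.inv_mem ha.1)))
            rw [← h1, hone, ha.2 h hh, one_mul] at h2
            exact h2.symm
        exact hχ ((hall b0 (by rw [hQ]; exact hb0)).2 a0 ha0)
      obtain ⟨h1, hh1, g, hg, hne⟩ := hex
      have heP : ∀ h ∈ P, (h : A) * e = e * h := fun h hh => hcomm h fun z hzz => ((hZm z).1 hzz).2 h hh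
      refine hfree (fun h => Ad K h) P hxP ?_ ((g : A) * e) ?_ (fun h => χ (h * g * h⁻¹ * g⁻¹)) ?_
        ⟨x⁻¹ * h1 * x, hinv P hxP h1 hh1, ?_⟩ f hf hd (by rw [hAd]; rfl)
      · intro h _ a
        simp only [Ad_apply, Units.val_mul, mul_inv_rev]
        simp [mul_assoc]
      · intro h0
        have := congrArg (fun t => ((g⁻¹ : Aˣ) : A) * t) h0
        simp at this
        exact he this
      · intro h hh
        have e1 := hz _ (hDZ _ (hcD h hh g hg))
        have e2 : ((h⁻¹ : Aˣ) : A) * e = e * ((h⁻¹ : Aˣ) : A) := heP h⁻¹ (P.inv_mem hh)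
        have e3 : h * g * h⁻¹ = g * (h * g * h⁻¹ * g⁻¹) := by
          rw [← hDz _ (hcD h hh g hg) g hg]; group
        show Ad K h ((g : A) * e) = χ (h * g * h⁻¹ * g⁻¹) • ((g : A) * e)
        have e4 : Ad K h ((g : A) * e) = ((h * g * h⁻¹ : Aˣ) : A) * e := by
          rw [Ad_apply, mul_assoc (g : A), ← e2, ← mul_assoc, ← mul_assoc, ← Units.val_mul, ← Units.val_mul]
        have e5 : ((h * g * h⁻¹ : Aˣ) : A) = (g : A) * ((h * g * h⁻¹ * g⁻¹ : Aˣ) : A) := by
          rw [← Units.val_mul, ← e3]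
        rw [e4, e5, mul_assoc, e1, mul_smul_comm]
      · intro h0
        apply hne
        have e1 : x * (x⁻¹ * h1 * x) * x⁻¹ = h1 := by group
        simp only [e1] at h0
        have hk : x⁻¹ * h1 * x ∈ P := hinv P hxP h1 hh1
        have e2 := hZx _ (hDZ _ (hcD _ hk g hg))
        have e3 : x * (x⁻¹ * h1 * x * g * (x⁻¹ * h1 * x)⁻¹ * g⁻¹) * x⁻¹
            = h1 * (w g * g) * h1⁻¹ * (w g * g)⁻¹ := by
          rw [hw]
          group
        rw [← e2, e3, hcm h1 hh1 _ (hwP g hg) g hg, hmul _ (hDZ _ (hcD h1 hh1 _ (hwP g hg))) _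
          (hDZ _ (hcD h1 hh1 g hg))] at h0
        have e4 := hnz _ (hDZ _ (hcD h1 hh1 g hg))
        exact (mul_eq_right₀ e4).1 h0.symm

end Main

section Semisimple

variable {K : Type*} [Field K] [IsAlgClosed K] {A : Type*} [Ring A] [Algebra K A] [FiniteDimensional K A]

theorem aeval_mul_eigen {y u : A} {c : K} (h : y * u = c • u) (p : K[X]) : aeval y p * u = p.eval c • u := by
  induction p using Polynomial.induction_on' with
  | add p q hp hq => rw [map_add, add_mul, hp, hq, eval_add, add_smul]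
  | monomial n a =>
    have h1 : ∀ n : ℕ, y ^ n * u = c ^ n • u := by
      intro n
      induction n with
      | zero => simp
      | succ n ih => rw [pow_succ, mul_assoc, h, mul_smul_comm, ih, smul_smul, pow_succ, mul_comm]
    rw [aeval_monomial, mul_assoc, h1, eval_monomial, mul_smul_comm, ← Algebra.smul_def, smul_smul, mul_comm]

theorem aeval_mul_comm {y z u : A} (h : y * u = u * z) (p : K[X]) : aeval y p * u = u * aeval z p := by
  induction p using Polynomial.induction_on' with
  | add p q hp hq => rw [map_add, map_add, add_mul, hp, hq, mul_add]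
  | monomial n a =>
    have h1 : ∀ n : ℕ, y ^ n * u = u * z ^ n := by
      intro n
      induction n with
      | zero => simp
      | succ n ih => rw [pow_succ, mul_assoc, h, ← mul_assoc, ih, mul_assoc, ← pow_succ]
    rw [aeval_monomial, aeval_monomial, mul_assoc, h1, ← Algebra.smul_def, ← Algebra.smul_def, mul_smul_comm]

theorem exists_root (S : Finset K) {y w : A} (hw : w ≠ 0) (h : aeval y (∏ s ∈ S, (X - C s)) * w = 0) :
    ∃ s ∈ S, ∃ w' : A, w' ≠ 0 ∧ y * w' = s • w' := by
  classical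
  induction S using Finset.induction_on with
  | empty => exact absurd (by simpa using h) hw
  | insert a S ha ih =>
    by_cases h0 : aeval y (∏ s ∈ S, (X - C s)) * w = 0
    · obtain ⟨s, hs, w', h1, h2⟩ := ih h0
      exact ⟨s, Finset.mem_insert_of_mem hs, w', h1, h2⟩
    · refine ⟨a, Finset.mem_insert_self a S, _, h0, ?_⟩
      rw [Finset.prod_insert ha, map_mul, mul_assoc, map_sub, aeval_X, aeval_C, sub_mul, ← Algebra.smul_def,
        sub_eq_zero] at h
      exact h

/-- the eigenvalues of conjugation by `x` -/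
theorem eigenvalue_mem (S : Finset K) (x : Aˣ) (hm : aeval (x : A) (∏ s ∈ S, (X - C s)) = 0) {μ : K} {w : A}
    (hw : w ≠ 0) (h : Ad K x w = μ • w) : ∃ s ∈ S, ∃ s' ∈ S, s ≠ 0 ∧ μ = s' / s := by
  have hμ : μ ≠ 0 := by
    rintro rfl
    rw [zero_smul] at h
    exact hw (Ad_injective (K := K) x (h.trans (map_zero _).symm))
  have h1 : (x : A) * w = μ • (w * x) := by
    rw [Ad_apply] at h
    have := congrArg (fun t => t * (x : A)) h
    simpa [mul_assoc] using this
  have h2 : (μ⁻¹ • (x : A)) * w = w * x := by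
    rw [smul_mul_assoc, h1, smul_smul, inv_mul_cancel₀ hμ, one_smul]
  have h3 : aeval (μ⁻¹ • (x : A)) (∏ s ∈ S, (X - C s)) * w = 0 := by
    rw [aeval_mul_comm h2, hm, mul_zero]
  obtain ⟨s, hs, w', hw', h4⟩ := exists_root S hw h3
  have h5 : (x : A) * w' = (μ * s) • w' := by
    have := congrArg (fun t => μ • t) h4
    simp only [smul_mul_assoc, smul_smul, mul_inv_cancel₀ hμ, one_smul] at this
    exact this
  have h6 := aeval_mul_eigen h5 (∏ s ∈ S, (X - C s))
  rw [hm, zero_mul] at h6
  have h7 : (∏ s ∈ S, (X - C s)).eval (μ * s) = 0 := by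
    rcases smul_eq_zero.1 h6.symm with h | h
    · exact h
    · exact absurd h hw'
  rw [eval_prod, Finset.prod_eq_zero_iff] at h7
  obtain ⟨s', hs', h8⟩ := h7
  rw [eval_sub, eval_X, eval_C, sub_eq_zero] at h8
  have hs0 : s ≠ 0 := by
    rintro rfl
    rw [mul_zero, zero_smul] at h5
    have := congrArg (fun t => ((x⁻¹ : Aˣ) : A) * t) h5
    simp at this
    exact hw' this
  exact ⟨s, hs, s', hs', hs0, by rw [eq_div_iff hs0, h8]⟩

theorem aeval_Ad_eq_zero (S : Finset K) (x : Aˣ) {r : ℕ} (hr : (r : K) ≠ 0) (hx : x ^ r = 1)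
    (hm : aeval (x : A) (∏ s ∈ S, (X - C s)) = 0) (Q : Finset K) (hQ : ∀ s ∈ S, ∀ s' ∈ S, s' / s ∈ Q) :
    aeval (Ad K x) (∏ q ∈ Q, (X - C q)) = 0 := by
  have hpow : ∀ k : ℕ, (Ad K x) ^ k = Ad K (x ^ k) := by
    intro k
    induction k with
    | zero => ext a; simp [Ad_apply]
    | succ k ih =>
      ext a
      rw [pow_succ, Module.End.mul_apply, ih, Ad_apply, Ad_apply, Ad_apply, pow_succ, mul_inv_rev, Units.val_mul,
        Units.val_mul]
      simp only [mul_assoc]
  have h1 : aeval (Ad K x) (X ^ r - 1 : K[X]) = 0 := by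
    rw [map_sub, map_pow, aeval_X, map_one, hpow, hx]
    ext a
    simp [Ad_apply]
  have hss : Module.End.IsSemisimple (Ad K x : Module.End K A) :=
    Module.End.isSemisimple_of_squarefree_aeval_eq_zero (X_pow_sub_one_separable_iff.2 hr).squarefree h1
  have htop := Module.End.iSup_maxGenEigenspace_eq_top (Ad K x : Module.End K A)
  apply LinearMap.ext
  intro a
  have ha : a ∈ ⨆ μ, Module.End.maxGenEigenspace (Ad K x : Module.End K A) μ := by rw [htop]; trivial
  rw [LinearMap.zero_apply]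
  induction ha using Submodule.iSup_induction' with
  | mem μ a ha =>
    rw [(Module.End.isFinitelySemisimple_iff_isSemisimple.mpr hss).maxGenEigenspace_eq_eigenspace,
      Module.End.mem_eigenspace_iff] at ha
    by_cases h0 : a = 0
    · rw [h0, map_zero]
    · obtain ⟨s, hs, s', hs', -, hμ⟩ := eigenvalue_mem S x hm h0 ha
      have h2 := Module.End.aeval_apply_of_hasEigenvector (f := Ad K x) (p := ∏ q ∈ Q, (X - C q)) (μ := μ) (x := a)
        ⟨Module.End.mem_eigenspace_iff.2 ha, h0⟩
      rw [h2, eval_prod, Finset.prod_eq_zero (i := μ) (by rw [hμ]; exact hQ s hs s' hs') (by simp), zero_smul]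
  | zero => rw [map_zero]
  | add a b _ _ ha hb => rw [map_add, ha, hb, add_zero]

end Semisimple

section GLn

variable {K : Type*} [Field K] {n : Type*} [Fintype n] [DecidableEq n]

/-- the image of an invertible matrix over an algebraic closure -/
noncomputable def mapU (x : GL n K) : (Matrix n n (AlgebraicClosure K))ˣ :=
  Units.map ((algebraMap K (AlgebraicClosure K)).mapMatrix : Matrix n n K →+* Matrix n n (AlgebraicClosure K)).toMonoidHom x

theorem mapU_val (x : GL n K) : ((mapU x : (Matrix n n (AlgebraicClosure K))ˣ) : Matrix n n (AlgebraicClosure K)) =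
    (algebraMap K (AlgebraicClosure K)).mapMatrix (x : Matrix n n K) := rfl

theorem mapU_injective : Function.Injective (mapU : GL n K → _) := by
  apply Units.map_injective
  exact (Matrix.map_injective (algebraMap K (AlgebraicClosure K)).injective)

/-- **Lemma Y** over an arbitrary field, for an `s`-group `P` -/
theorem GL_centralises {s : ℕ} [hs : Fact s.Prime] (hsK : (s : K) ≠ 0) (x : GL n K) {r : ℕ} (hr : r.Prime) (hrs : r ≠ s)
    (hx : x ^ r = 1) (P : Subgroup (GL n K)) [Finite P] (hP : IsPGroup s P) (hxP : ∀ g ∈ P, x * g * x⁻¹ ∈ P)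
    (f : (AlgebraicClosure K)[X]) (hf : f ≠ 0) (hd : f.natDegree < r)
    (hAd : aeval (Ad (AlgebraicClosure K) (mapU x)) f = 0) : ∀ g ∈ P, x * g * x⁻¹ = g := by
  set φ : GL n K →* (Matrix n n (AlgebraicClosure K))ˣ := Units.map
    ((algebraMap K (AlgebraicClosure K)).mapMatrix : Matrix n n K →+* Matrix n n (AlgebraicClosure K)).toMonoidHom with hφ
  have hinj : Function.Injective φ := mapU_injective
  set P' := P.map φ with hP'
  have hfin : Finite P' := by
    have e := P.equivMapOfInjective φ hinj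
    exact Finite.of_equiv _ e.toEquiv
  have hP'p : IsPGroup s P' := hP.map φ
  have hnil : Group.IsNilpotent P' := IsPGroup.isNilpotent hP'p
  have hsol : Group.IsSolvable P' := inferInstance
  obtain ⟨k, hk⟩ := IsPGroup.iff_card.1 hP'p
  have h1 := centralises (K := AlgebraicClosure K) (mapU x) hr (by
      show (φ x) ^ r = 1
      rw [← map_pow, hx, map_one]) f hf hd hAd _ P' rfl hfin hsol (by
      rw [hk, Nat.cast_pow]
      apply pow_ne_zero
      intro h
      apply hsK
      have h2 : algebraMap K (AlgebraicClosure K) (s : K) = 0 := by rw [map_natCast]; exact h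
      exact (map_eq_zero _).1 h2) (by
      rw [hk]
      intro h
      exact hrs ((Nat.prime_dvd_prime_iff_eq hr hs.out).1 (hr.dvd_of_dvd_pow h))) (by
      rintro _ ⟨g, hg, rfl⟩
      refine ⟨x * g * x⁻¹, hxP g hg, ?_⟩
      rw [map_mul, map_mul, map_inv]
      rfl)
  intro g hg
  apply hinj
  have h2 := h1 (φ g) ⟨g, hg, rfl⟩
  rw [map_mul, map_mul, map_inv]
  exact h2

/-- the semisimple case: `x` is killed by a product of distinct linear factors with roots `S`, fewer than `r`
quotients -/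
theorem Y3 {s : ℕ} [Fact s.Prime] (hsK : (s : K) ≠ 0) (x : GL n K) {r : ℕ} (hr : r.Prime) (hrs : r ≠ s)
    (hrK : (r : K) ≠ 0) (hx : x ^ r = 1) (P : Subgroup (GL n K)) [Finite P] (hP : IsPGroup s P)
    (hxP : ∀ g ∈ P, x * g * x⁻¹ ∈ P) (S : Finset (AlgebraicClosure K))
    (hm : aeval ((algebraMap K (AlgebraicClosure K)).mapMatrix (x : Matrix n n K)) (∏ s ∈ S, (X - C s)) = 0)
    (Q : Finset (AlgebraicClosure K)) (hQ : ∀ s ∈ S, ∀ s' ∈ S, s' / s ∈ Q) (hc : Q.card < r) :
    ∀ g ∈ P, x * g * x⁻¹ = g := by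
  refine GL_centralises hsK x hr hrs hx P hP hxP (∏ q ∈ Q, (X - C q)) ?_ ?_ ?_
  · exact (monic_prod_of_monic _ _ fun q _ => monic_X_sub_C q).ne_zero
  · rw [natDegree_prod_of_monic _ _ fun q _ => monic_X_sub_C q]
    simpa using hc
  · refine aeval_Ad_eq_zero S (mapU x) (r := r) ?_ ?_ hm Q hQ
    · intro h
      apply hrK
      have h2 : algebraMap K (AlgebraicClosure K) (r : K) = 0 := by rw [map_natCast]; exact h
      exact (map_eq_zero _).1 h2
    · show (Units.map _ x) ^ r = 1
      rw [← map_pow, hx, map_one]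

/-- quadratic elements in characteristic `p ≥ 5` centralise the `s`-subgroups (`s ≠ p`) they normalise -/
theorem Y1 {p : ℕ} [hp : Fact p.Prime] [CharP K p] (h5 : 5 ≤ p) {s : ℕ} [hs : Fact s.Prime] (hsp : s ≠ p) (x : GL n K)
    (hx : ((x : Matrix n n K) - 1) ^ 2 = 0) (P : Subgroup (GL n K)) [Finite P] (hP : IsPGroup s P)
    (hxP : ∀ g ∈ P, x * g * x⁻¹ ∈ P) : ∀ g ∈ P, x * g * x⁻¹ = g := by
  have hxp : x ^ p = 1 := by
    apply Units.ext
    rw [Units.val_pow_eq_pow_val, Units.val_one]
    have e1 : (x : Matrix n n K) = ((x : Matrix n n K) - 1) + 1 := by rw [sub_add_cancel]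
    have hch : CharP (Matrix n n K) p ∨ Subsingleton (Matrix n n K) := by
      rcases isEmpty_or_nonempty n with h | h
      · right; infer_instance
      · left; infer_instance
    rcases hch with hch | hch
    · rw [e1, add_pow_char_of_commute p (Commute.one_right _), one_pow]
      have : ((x : Matrix n n K) - 1) ^ p = 0 := by
        obtain ⟨k, hk⟩ := Nat.exists_eq_add_of_le (show 2 ≤ p by omega)
        rw [hk, pow_add, hx, zero_mul]
      rw [this, zero_add]
    · exact Subsingleton.elim _ _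
  have hsK : (s : K) ≠ 0 := by
    intro h
    rw [CharP.cast_eq_zero_iff K p] at h
    exact hsp ((Nat.prime_dvd_prime_iff_eq hp.out hs.out).1 h).symm
  refine GL_centralises hsK x hp.out hsp.symm hxp P hP hxP ((X - 1) ^ 3) ?_ ?_ ?_
  · exact pow_ne_zero _ (X_sub_C_ne_zero 1)
  · have : ((X - 1 : (AlgebraicClosure K)[X]) ^ 3).natDegree ≤ 3 := by
      refine natDegree_pow_le.trans ?_
      have := natDegree_X_sub_C (1 : AlgebraicClosure K)
      rw [map_one] at this
      rw [this]
    omega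
  · set y := mapU x with hy
    set N : Matrix n n (AlgebraicClosure K) := (y : Matrix n n (AlgebraicClosure K)) - 1 with hN
    have hN2 : N * N = 0 := by
      have h1 : N = (algebraMap K (AlgebraicClosure K)).mapMatrix ((x : Matrix n n K) - 1) := by
        rw [hN, hy, mapU_val, map_sub, map_one]
      rw [h1, ← map_mul, ← pow_two, hx, map_zero]
    have hy1 : (y : Matrix n n (AlgebraicClosure K)) = 1 + N := by rw [hN]; abel
    have hy2 : ((y⁻¹ : (Matrix n n (AlgebraicClosure K))ˣ) : Matrix n n (AlgebraicClosure K)) = 1 - N := by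
      rw [← Units.mul_eq_one_iff_inv_eq, hy1]
      have : (1 + N) * (1 - N) = 1 - N * N := by noncomm_ring
      rw [this, hN2, sub_zero]
    have hT : ∀ m, (aeval (Ad (AlgebraicClosure K) y) (X - 1 : (AlgebraicClosure K)[X])) m = N * m - m * N - N * m * N := by
      intro m
      rw [map_sub, aeval_X, map_one, LinearMap.sub_apply, Module.End.one_apply, Ad_apply, hy1, hy2]
      noncomm_ring
    apply LinearMap.ext
    intro m
    rw [pow_succ, pow_two, map_mul, map_mul, Module.End.mul_apply, Module.End.mul_apply, hT, hT, hT, LinearMap.zero_apply]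
    have e1 : ∀ m, N * (N * m) = 0 := fun m => by rw [← mul_assoc, hN2, zero_mul]
    have e2 : ∀ m, m * N * N = 0 := fun m => by rw [mul_assoc, hN2, mul_zero]
    simp only [mul_sub, sub_mul, mul_assoc, e1, hN2, mul_zero, sub_zero, zero_sub]
    have e3 : ∀ m, N * (m * N * N) = 0 := fun m => by rw [e2, mul_zero]
    simp [mul_assoc, e1, hN2]

/-- semisimple elements with eigenvalues `1, l, l⁻¹` of prime order `r ≥ 7` -/
theorem Y2 {r : ℕ} (hr : r.Prime) (h7 : 7 ≤ r) (hrK : (r : K) ≠ 0) {s : ℕ} [hs : Fact s.Prime] (hsK : (s : K) ≠ 0)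
    (hrs : r ≠ s) (x : GL n K) (hxr : x ^ r = 1) (t : K)
    (hx : ((x : Matrix n n K) - 1) * ((x : Matrix n n K) ^ 2 - t • (x : Matrix n n K) + 1) = 0)
    (P : Subgroup (GL n K)) [Finite P] (hP : IsPGroup s P)
    (hxP : ∀ g ∈ P, x * g * x⁻¹ ∈ P) : ∀ g ∈ P, x * g * x⁻¹ = g := by
  classical
  set L := AlgebraicClosure K with hL
  obtain ⟨l, hl⟩ : ∃ l : L, l ^ 2 - algebraMap K L t * l + 1 = 0 := by
    obtain ⟨l, hl⟩ := IsAlgClosed.exists_root (X ^ 2 - C (algebraMap K L t) * X + 1 : L[X]) (by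
      have : (X ^ 2 - C (algebraMap K L t) * X + 1 : L[X]).degree = 2 := by compute_degree!
      rw [this]; decide)
    refine ⟨l, ?_⟩
    simpa [IsRoot] using hl
  have hl0 : l ≠ 0 := by
    rintro rfl
    simp at hl
  have ht : algebraMap K L t = l + l⁻¹ := by
    apply mul_right_cancel₀ hl0
    rw [add_mul, inv_mul_cancel₀ hl0]
    linear_combination -hl
  set y : Matrix n n L := (algebraMap K L).mapMatrix (x : Matrix n n K) with hy
  have hy3 : (y - 1) * (y ^ 2 - algebraMap K L t • y + 1) = 0 := by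
    have h1 := congrArg ((algebraMap K L).mapMatrix : Matrix n n K →+* Matrix n n L) hx
    have h2 : ((algebraMap K L).mapMatrix : Matrix n n K →+* Matrix n n L) (t • (x : Matrix n n K)) =
        algebraMap K L t • y := by
      ext i j
      simp [hy]
    rw [map_mul, map_sub, map_one, map_add, map_sub, map_one, map_pow, h2, map_zero] at h1
    exact h1
  have hyr : y ^ r = 1 := by
    have h1 := congrArg (fun u : GL n K => (algebraMap K L).mapMatrix (u : Matrix n n K)) hxr
    simp only [Units.val_pow_eq_pow_val, map_pow, Units.val_one, map_one] at h1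
    exact h1
  refine Y3 hsK x hr hrs hrK hxr P hP hxP {1, l, l⁻¹} ?_ {1, l, l⁻¹, l ^ 2, (l⁻¹) ^ 2} ?_ ?_
  · -- the polynomial
    have hrL : (r : L) ≠ 0 := by
      intro h
      apply hrK
      have h2 : algebraMap K L (r : K) = 0 := by rw [map_natCast]; exact h
      exact (map_eq_zero _).1 h2
    have hsq : Squarefree (minpoly L y) := by
      have h1 : Squarefree (X ^ r - 1 : L[X]) := (X_pow_sub_one_separable_iff.2 hrL).squarefree
      refine h1.squarefree_of_dvd (minpoly.dvd L y ?_)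
      rw [map_sub, map_pow, aeval_X, map_one, hyr, sub_self]
    have hd1 : minpoly L y ∣ (X - C 1) * ((X - C l) * (X - C l⁻¹)) := by
      apply minpoly.dvd
      have e1 : ((X - C 1) * ((X - C l) * (X - C l⁻¹)) : L[X]) = (X - 1) * (X ^ 2 - C (l + l⁻¹) * X + 1) := by
        have e2 : (C l * C l⁻¹ : L[X]) = 1 := by rw [← C_mul, mul_inv_cancel₀ hl0, C_1]
        rw [C_1, C_add]
        linear_combination (X - 1) * e2
      rw [e1, ← ht, map_mul, map_sub, aeval_X, map_one, map_add, map_sub, map_pow, aeval_X, map_mul, aeval_C, aeval_X,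
        map_one, ← Algebra.smul_def]
      exact hy3
    have hd2 : minpoly L y ∣ (∏ s ∈ ({1, l, l⁻¹} : Finset L), (X - C s)) ^ 3 := by
      refine hd1.trans ?_
      rw [pow_succ', pow_two]
      refine mul_dvd_mul ?_ (mul_dvd_mul ?_ ?_)
      · exact Finset.dvd_prod_of_mem (fun s => (X - C s : L[X])) (by simp)
      · exact Finset.dvd_prod_of_mem (fun s => (X - C s : L[X])) (by simp)
      · exact Finset.dvd_prod_of_mem (fun s => (X - C s : L[X])) (by simp)
    have hd3 := (hsq.dvd_pow_iff_dvd (by norm_num)).1 hd2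
    exact (minpoly.dvd_iff.1 hd3)
  · intro s hs s' hs'
    simp only [Finset.mem_insert, Finset.mem_singleton] at hs hs' ⊢
    rcases hs with rfl | rfl | rfl <;> rcases hs' with rfl | rfl | rfl <;>
      simp [hl0, pow_two, div_eq_mul_inv]
  · have := Finset.card_le_five (a := (1 : L)) (b := l) (c := l⁻¹) (d := l ^ 2) (e := (l⁻¹) ^ 2)
    omega

end GLn

end Cfsg.Agent.H847.LemmaY
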