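import Mathlib

/-!
# Averages with a character of order two (helper847)

`avg r lam` : the average `|A|⁻¹ ∑ lam a • r a` for a representation `r` of a finite group `A` and a linear character
`lam` with values `± 1`: the projection onto the space of the vectors with `r a x = lam a • x`.
-/

set_option autoImplicit false

namespace Cfsg.Agent.H847.Avg

open Module

variable {A : Type*} [Group A] [Fintype A] {W : Type*} [AddCommGroup W] [Module ℂ W]

/-- the average -/
noncomputable def avg (r : A →* (W →ₗ[ℂ] W)) (lam : A → ℂ) : W →ₗ[ℂ] W :=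
  (Fintype.card A : ℂ)⁻¹ • ∑ a, lam a • r a

/-- a linear character with values `± 1` -/
structure Lin (lam : A → ℂ) : Prop where
  mul : ∀ a b, lam (a * b) = lam a * lam b
  sq : ∀ a, lam a * lam a = 1

omit [Fintype A] in
theorem Lin.one {lam : A → ℂ} (h : Lin lam) : lam 1 = 1 := by
  have h1 := h.mul 1 1
  rw [mul_one, h.sq] at h1
  exact h1

omit [Fintype A] in
theorem Lin.inv {lam : A → ℂ} (h : Lin lam) (a : A) : lam a⁻¹ = lam a := by
  have h1 := h.mul a⁻¹ a
  rw [inv_mul_cancel, h.one] at h1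
  calc lam a⁻¹ = lam a⁻¹ * (lam a * lam a) := by rw [h.sq, mul_one]
    _ = lam a := by rw [← mul_assoc, ← h1, one_mul]

omit [Fintype A] in
theorem lin_one : Lin (fun _ : A => (1 : ℂ)) := ⟨fun _ _ => (one_mul _).symm, fun _ => one_mul _⟩

theorem mul_avg (r : A →* (W →ₗ[ℂ] W)) {lam : A → ℂ} (h : Lin lam) (b : A) :
    r b * avg r lam = lam b • avg r lam := by
  unfold avg
  rw [mul_smul_comm, smul_comm (lam b)]
  congr 1
  rw [Finset.mul_sum, Finset.smul_sum]
  refine Fintype.sum_equiv (Equiv.mulLeft b) _ _ fun a => ?_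
  rw [Equiv.coe_mulLeft, mul_smul_comm, ← map_mul, smul_smul, h.mul, ← mul_assoc, h.sq, one_mul]

theorem apply_avg (r : A →* (W →ₗ[ℂ] W)) {lam : A → ℂ} (h : Lin lam) (b : A) (x : W) :
    r b (avg r lam x) = lam b • avg r lam x := by
  have := congrArg (fun f : W →ₗ[ℂ] W => f x) (mul_avg r h b)
  simpa using this

theorem avg_mul (r : A →* (W →ₗ[ℂ] W)) {lam : A → ℂ} (h : Lin lam) (b : A) :
    avg r lam * r b = lam b • avg r lam := by
  unfold avg
  rw [smul_mul_assoc, smul_comm (lam b)]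
  congr 1
  rw [Finset.sum_mul, Finset.smul_sum]
  refine Fintype.sum_equiv (Equiv.mulRight b) _ _ fun a => ?_
  rw [Equiv.coe_mulRight, smul_mul_assoc, ← map_mul, smul_smul, h.mul, mul_comm (lam a), ← mul_assoc, h.sq, one_mul]

theorem avg_apply' (r : A →* (W →ₗ[ℂ] W)) {lam : A → ℂ} (h : Lin lam) (b : A) (x : W) :
    avg r lam (r b x) = lam b • avg r lam x := by
  have := congrArg (fun f : W →ₗ[ℂ] W => f x) (avg_mul r h b)
  simpa using this

theorem avg_apply (r : A →* (W →ₗ[ℂ] W)) (lam : A → ℂ) (x : W) :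
    avg r lam x = (Fintype.card A : ℂ)⁻¹ • ∑ a, lam a • r a x := by
  unfold avg
  rw [LinearMap.smul_apply, LinearMap.sum_apply]
  rfl

theorem card_ne : (Fintype.card A : ℂ) ≠ 0 := Nat.cast_ne_zero.2 Fintype.card_ne_zero

theorem avg_eq (r : A →* (W →ₗ[ℂ] W)) {lam : A → ℂ} (h : Lin lam) {x : W} (hx : ∀ b, r b x = lam b • x) :
    avg r lam x = x := by
  rw [avg_apply]
  have : ∑ a, lam a • r a x = ∑ _a : A, x := Finset.sum_congr rfl fun a _ => by rw [hx, smul_smul, h.sq, one_smul]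
  rw [this, Finset.sum_const, Finset.card_univ, ← Nat.cast_smul_eq_nsmul ℂ, smul_smul, inv_mul_cancel₀ card_ne, one_smul]

/-- the space of the vectors on which `A` acts by `lam` -/
def eig (r : A →* (W →ₗ[ℂ] W)) (lam : A → ℂ) : Submodule ℂ W where
  carrier := {x | ∀ b, r b x = lam b • x}
  add_mem' := by
    intro x y hx hy b
    rw [map_add, hx b, hy b, smul_add]
  zero_mem' := fun b => by rw [map_zero, smul_zero]
  smul_mem' := by
    intro c x hx b
    rw [map_smul, hx b, smul_comm]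

omit [Fintype A] in
theorem mem_eig {r : A →* (W →ₗ[ℂ] W)} {lam : A → ℂ} {x : W} : x ∈ eig r lam ↔ ∀ b, r b x = lam b • x := Iff.rfl

theorem isProj (r : A →* (W →ₗ[ℂ] W)) {lam : A → ℂ} (h : Lin lam) : LinearMap.IsProj (eig r lam) (avg r lam) :=
  ⟨fun x b => apply_avg r h b x, fun _ hx => avg_eq r h hx⟩

/-- the trace is the dimension -/
theorem trace_avg [FiniteDimensional ℂ W] (r : A →* (W →ₗ[ℂ] W)) {lam : A → ℂ} (h : Lin lam) :
    LinearMap.trace ℂ W (avg r lam) = (finrank ℂ (eig r lam) : ℂ) := (isProj r h).trace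

theorem trace_avg_eq_sum (r : A →* (W →ₗ[ℂ] W)) (lam : A → ℂ) :
    LinearMap.trace ℂ W (avg r lam) = (Fintype.card A : ℂ)⁻¹ * ∑ a, lam a * LinearMap.trace ℂ W (r a) := by
  unfold avg
  rw [map_smul, smul_eq_mul, map_sum]
  congr 1
  exact Finset.sum_congr rfl fun a _ => by rw [map_smul, smul_eq_mul]

end Cfsg.Agent.H847.Avg
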