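import Cfsg.Agent.H847.QTrace

/-!
# The degree of a representation in terms of the restriction to `2^(1+24)` (helper847)

`degree_eq` : if the degree is less than `8292375` and `y ≠ z` is a conjugate of `z` in `Q` over the frame class then
the degree is `m 0 + 196584 m₂`.
-/

set_option autoImplicit false

namespace Cfsg.Agent.H847.QDeg

open Module Cfsg Cfsg.Spor
open Cfsg.Agent.H847.Avg Cfsg.Agent.H847.QTrace
open Cfsg.Agent.H847.Co1Small (sg sg_zero sg_one sg_add sg_sq zcases)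
open Cfsg.Agent.MonsterU.Lam2
open Cfsg.Agent.MonsterU.Ch
open Cfsg.Agent.MonsterU.CoFrameL2 (f0)
open Cfsg.Agent.ConwayFacts.NormL2 (ncard_two ncard_three ncard_four isType_f0 ne_zero_of_type)

/-- a local instance -/
noncomputable local instance fintypeL2' : Fintype L2 := QTrace.fintypeL2

open Classical in
/-- the classes of type `n` -/
noncomputable def Tn (n : ℤ) : Finset L2 := Finset.univ.filter fun x => IsType n x

theorem mem_Tn {n : ℤ} {x : L2} : x ∈ Tn n ↔ IsType n x := by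
  simp [Tn]

theorem card_Tn (n : ℤ) : (Tn n).card = {x : L2 | IsType n x}.ncard := by
  rw [← Set.ncard_coe_finset]
  congr 1
  ext x
  exact mem_Tn

theorem sum_two : ∑ v ∈ Tn 2, sg (bf v f0) = -24 := by
  classical
  have h1 : ∀ v ∈ Tn 2, sg (bf v f0) = 1 - 2 * (if bf v f0 = 1 then (1 : ℂ) else 0) := by
    intro v _
    rcases zcases (bf v f0) with h | h
    · rw [h, sg_zero, if_neg (by decide)]; norm_num
    · rw [h, sg_one, if_pos rfl]; norm_num
  rw [Finset.sum_congr rfl h1, Finset.sum_sub_distrib, ← Finset.mul_sum, Finset.sum_const, Finset.sum_boole, card_Tn,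
    ncard_two]
  have h2 : ((Tn 2).filter fun v => bf v f0 = 1).card = 49152 := by
    rw [← Cfsg.Agent.H847.OddCount.ncard_odd, ← Set.ncard_coe_finset]
    congr 1
    ext x
    rw [Finset.mem_coe, Finset.mem_filter, mem_Tn]
    exact Iff.rfl
  rw [h2]
  norm_num

variable {G : Type*} [Group G] {Q : Subgroup G} {z : G} {eta : G → L2}
  {pi : Subgroup.centralizer ({z} : Set G) →* Co1}
variable {V : Type*} [AddCommGroup V] [Module ℂ V]
variable [Fintype Q]

theorem m_eq_zero [FiniteDimensional ℂ V] (h : Chart Q z eta pi) (ρ : G →* (V →ₗ[ℂ] V)) (hlt : finrank ℂ V < 8292375)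
    {n : ℤ} (hn : n = 3 ∨ n = 4) {x : L2} (hx : IsType n x) : m Q eta ρ x = 0 := by
  by_contra h0
  have h1 : 8292375 ≤ (Tn n).card := by
    rw [card_Tn]
    rcases hn with rfl | rfl
    · exact le_trans (by norm_num) ncard_three
    · rw [ncard_four]
  have h2 : ∀ y ∈ Tn n, 1 ≤ m Q eta ρ y := by
    intro y hy
    rw [← m_type h ρ (Or.inr hn) hx (mem_Tn.1 hy)]
    omega
  have h3 : (Tn n).card ≤ ∑ y ∈ Tn n, m Q eta ρ y := by
    have := Finset.card_nsmul_le_sum (Tn n) (m Q eta ρ) 1 h2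
    simpa using this
  have h4 : ∑ y ∈ Tn n, m Q eta ρ y ≤ ∑ y : L2, m Q eta ρ y := Finset.sum_le_univ_sum_of_nonneg fun _ => Nat.zero_le _
  have h5 := sum_m_le h ρ
  omega

theorem sum_split [FiniteDimensional ℂ V] (h : Chart Q z eta pi) (ρ : G →* (V →ₗ[ℂ] V)) (hlt : finrank ℂ V < 8292375)
    {x : L2} (hx : IsType 2 x) (s : L2 → ℂ) (hs : s 0 = 1) :
    ∑ v : L2, s v * (m Q eta ρ v : ℂ) = (m Q eta ρ 0 : ℂ) + (∑ v ∈ Tn 2, s v) * (m Q eta ρ x : ℂ) := by
  classical
  have h1 : ∀ v : L2, s v * (m Q eta ρ v : ℂ) =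
      (if v = 0 then (m Q eta ρ 0 : ℂ) else 0) + (if v ∈ Tn 2 then s v * (m Q eta ρ x : ℂ) else 0) := by
    intro v
    rcases type_cases v with rfl | hv | hv | hv
    · rw [if_pos rfl, if_neg (fun h2 => ne_zero_of_type (Or.inl rfl) (mem_Tn.1 h2) rfl), hs, one_mul, add_zero]
    · rw [if_neg (ne_zero_of_type (Or.inl rfl) hv), if_pos (mem_Tn.2 hv), zero_add, m_type h ρ (Or.inl rfl) hv hx]
    · have h2 := m_eq_zero h ρ hlt (Or.inl rfl) hv
      have h3 : v ∉ Tn 2 := by
        intro h4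
        have h5 := qf_of_type (mem_Tn.1 h4)
        rw [qf_of_type hv] at h5
        exact absurd h5 (by decide)
      have h4 : v ≠ 0 := by
        rintro rfl
        have h5 := qf_of_type hv
        rw [qf_zero] at h5
        exact absurd h5 (by decide)
      rw [h2, if_neg h3, if_neg h4, Nat.cast_zero, mul_zero, add_zero]
    · have h2 := m_eq_zero h ρ hlt (Or.inr rfl) hv
      rw [h2, Nat.cast_zero, mul_zero, if_neg (ne_zero_of_type (Or.inr rfl) hv), zero_add]
      by_cases h3 : v ∈ Tn 2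
      · rw [if_pos h3, ← m_type h ρ (Or.inl rfl) (mem_Tn.1 h3) hx, h2, Nat.cast_zero, mul_zero]
      · rw [if_neg h3]
  rw [Finset.sum_congr rfl fun v _ => h1 v, Finset.sum_add_distrib, Finset.sum_ite_eq' Finset.univ (0 : L2),
    if_pos (Finset.mem_univ _), Finset.sum_ite_mem, Finset.univ_inter, Finset.sum_mul]

omit [Fintype Q] in
/-- the conjugate `y z` of `y` -/
theorem exists_conj_yz (h : Chart Q z eta pi) {y : G} (hyQ : y ∈ Q) (hy : eta y ≠ 0) :
    ∃ r ∈ Q, r * y * r⁻¹ = y * z ∧ bf (eta r) (eta y) = 1 := by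
  obtain ⟨w, hw⟩ := exists_bf hy
  obtain ⟨r, hr, rfl⟩ := h.eta_surj w
  refine ⟨r, hr, ?_, hw⟩
  have h1 : r * y = y * r * z := (h.comm_z_iff hr hyQ).2 hw
  rw [h1, mul_assoc y r z, h.large.comm_z r hr]
  group

/-- **The degree.** -/
theorem degree_eq [FiniteDimensional ℂ V] (h : Chart Q z eta pi) (ρ : G →* (V →ₗ[ℂ] V)) (hlt : finrank ℂ V < 8292375)
    {y : G} (hyQ : y ∈ Q) (hy : eta y = f0) (hconj : ∃ g, g * z * g⁻¹ = y) {x : L2} (hx : IsType 2 x) :
    finrank ℂ V = m Q eta ρ 0 + 196584 * m Q eta ρ x := by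
  have hf0 : eta y ≠ 0 := by rw [hy]; exact ne_zero_of_type (Or.inr rfl) isType_f0
  have ty : LinearMap.trace ℂ V (ρ y) = LinearMap.trace ℂ V (ρ z) := by
    obtain ⟨g, rfl⟩ := hconj
    exact trace_conj ρ g z
  have tyz : LinearMap.trace ℂ V (ρ (y * z)) = LinearMap.trace ℂ V (ρ z) := by
    obtain ⟨r, -, hr, -⟩ := exists_conj_yz h hyQ hf0
    rw [← hr, trace_conj, ty]
  have e1 := sum_m h ρ Q.one_mem
  have e2 := sum_m h ρ hyQ
  rw [h.eta_one, one_mul, map_one, LinearMap.trace_one] at e1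
  rw [ty, tyz, hy] at e2
  rw [sum_split h ρ hlt hx (fun v => sg (bf v 0)) (by rw [bf_zero_right, sg_zero])] at e1
  rw [sum_split h ρ hlt hx (fun v => sg (bf v f0)) (by rw [bf_zero_left, sg_zero]), sum_two] at e2
  have h1 : ∑ v ∈ Tn 2, sg (bf v 0) = 98280 := by
    have : ∀ v ∈ Tn 2, sg (bf v 0) = 1 := fun v _ => by rw [bf_zero_right, sg_zero]
    rw [Finset.sum_congr rfl this, Finset.sum_const, card_Tn, ncard_two]
    norm_num
  rw [h1] at e1
  have h2 : ((finrank ℂ V : ℕ) : ℂ) = ((m Q eta ρ 0 + 196584 * m Q eta ρ x : ℕ) : ℂ) := by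
    push_cast
    linear_combination (-2 : ℂ) * e1 + (1 : ℂ) * e2
  exact_mod_cast h2

end Cfsg.Agent.H847.QDeg
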