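import Cfsg.Agent.H847.QDeg

/-!
# Vectors fixed by the centraliser of the involution (helper847)

`fix_of_fix` : `y ≠ z` a conjugate of `z` in `Q` over the frame class, the degree less than `8292375`; a vector fixed by
`C(z)` is fixed by all elements conjugating `z` to `y`.
-/

set_option autoImplicit false

namespace Cfsg.Agent.H847.QFix

open Module Cfsg Cfsg.Spor
open Cfsg.Agent.H847.Avg Cfsg.Agent.H847.QTrace Cfsg.Agent.H847.QDeg
open Cfsg.Agent.H847.Co1Small (sg sg_zero sg_one sg_add sg_sq zcases)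
open Cfsg.Agent.MonsterU.Lam2
open Cfsg.Agent.MonsterU.Ch
open Cfsg.Agent.MonsterU.CoFrameL2 (f0)
open Cfsg.Agent.ConwayFacts.NormL2 (isType_f0 ne_zero_of_type)

/-- a local instance -/
noncomputable local instance fintypeL2F : Fintype L2 := QTrace.fintypeL2

/-- separation of a class from `0` and `f0` -/
theorem exists_sep {v : L2} (h0 : v ≠ 0) (h1 : v ≠ f0) : ∃ w, bf w f0 = 0 ∧ bf v w = 1 := by
  by_contra hn
  push Not at hn
  have hn' : ∀ w, bf w f0 = 0 → bf v w = 0 := by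
    intro w hw
    rcases zcases (bf v w) with h | h
    · exact h
    · exact absurd h (hn w hw)
  obtain ⟨w1, hw1⟩ := exists_bf (ne_zero_of_type (Or.inr rfl) isType_f0)
  have key : ∀ w, bf w f0 = 1 → bf v w = bf v w1 := by
    intro w hw
    have h2 := hn' (w + w1) (by rw [bf_add_left, hw, hw1]; decide)
    rw [bf_add_right] at h2
    revert h2
    generalize bf v w = a
    generalize bf v w1 = b
    revert a b; decide
  rcases zcases (bf v w1) with h | h
  · apply h0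
    apply bf_nondeg
    intro w
    rcases zcases (bf w f0) with h2 | h2
    · exact hn' w h2
    · rw [key w h2, h]
  · apply h1
    have h3 : v + f0 = 0 := by
      apply bf_nondeg
      intro w
      rw [bf_add_left, bf_comm f0 w]
      rcases zcases (bf w f0) with h2 | h2
      · rw [hn' w h2, h2, add_zero]
      · rw [key w h2, h, h2]; decide
    exact eq_of_add_eq_zero h3

variable {G : Type*} [Group G] {Q : Subgroup G} {z : G} {eta : G → L2}
  {pi : Subgroup.centralizer ({z} : Set G) →* Co1}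
variable {V : Type*} [AddCommGroup V] [Module ℂ V]
variable [Fintype Q]

theorem mem_Eg_zero (h : Chart Q z eta pi) [FiniteDimensional ℂ V] (ρ : G →* (V →ₗ[ℂ] V))
    (hlt : finrank ℂ V < 8292375) {y : G} (hyQ : y ∈ Q) (hy : eta y = f0) {x : V}
    (hx : ∀ c : G, c * z = z * c → c * y = y * c → ρ c x = x) : ∀ q ∈ Q, ρ q x = x := by
  have hz : ρ z x = x := hx z rfl (h.large.comm_z y hyQ).symm
  have h0 : ∀ v : L2, v ≠ 0 → avg (rQ Q ρ) (lam Q eta v) x = 0 := by
    intro v hv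
    by_cases hvf : v = f0
    · subst hvf
      have h1 : m Q eta ρ f0 = 0 := m_eq_zero h ρ hlt (Or.inr rfl) isType_f0
      have h2 : avg (rQ Q ρ) (lam Q eta f0) x ∈ Eg Q eta ρ f0 := (isProj (rQ Q ρ) (lin_lam h f0)).1 x
      have h3 : Eg Q eta ρ f0 = ⊥ := Submodule.finrank_eq_zero.1 h1
      rw [h3, Submodule.mem_bot] at h2
      exact h2
    · obtain ⟨w, hw1, hw2⟩ := exists_sep hv hvf
      obtain ⟨q, hq, rfl⟩ := h.eta_surj w
      have h1 : ρ q x = x := hx q (h.large.comm_z q hq) ((h.comm_iff hq hyQ).2 (by rw [hy]; exact hw1))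
      have h2 := avg_apply' (rQ Q ρ) (lin_lam h v) ⟨q, hq⟩ x
      have h3 : rQ Q ρ ⟨q, hq⟩ x = x := h1
      have h4 : lam Q eta v ⟨q, hq⟩ = -1 := by
        show sg (bf v (eta q)) = -1
        rw [hw2, sg_one]
      rw [h3, h4, neg_one_smul] at h2
      have h5 : (2 : ℂ) • avg (rQ Q ρ) (lam Q eta v) x = 0 := by
        rw [two_smul]
        nth_rewrite 1 [h2]
        rw [neg_add_cancel]
      exact (smul_eq_zero.1 h5).resolve_left two_ne_zero
  have h1 := congrArg (fun f : V →ₗ[ℂ] V => f x) (sum_avg h ρ Q.one_mem)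
  have h2 : ((1 / 2 : ℂ) • (ρ 1 + ρ (1 * z)) : V →ₗ[ℂ] V) x = x := by
    rw [LinearMap.smul_apply, LinearMap.add_apply, one_mul, hz, map_one, Module.End.one_apply, ← two_smul ℂ x, smul_smul]
    norm_num
  have h3 : (∑ v : L2, sg (bf v (eta 1)) • avg (rQ Q ρ) (lam Q eta v)) x = avg (rQ Q ρ) (lam Q eta 0) x := by
    rw [LinearMap.sum_apply, Finset.sum_eq_single (0 : L2)]
    · rw [LinearMap.smul_apply, bf_zero_left, sg_zero, one_smul]
    · intro v _ hv
      rw [LinearMap.smul_apply, h0 v hv, smul_zero]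
    · intro hn; exact absurd (Finset.mem_univ _) hn
  have h4 : avg (rQ Q ρ) (lam Q eta 0) x = x := by
    rw [← h3, ← h2]
    simp only [h2]
    exact h1.trans h2
  intro q hq
  have h5 := (isProj (rQ Q ρ) (lin_lam h 0)).1 x
  rw [h4] at h5
  have h6 := h5 ⟨q, hq⟩
  have h7 : lam Q eta 0 ⟨q, hq⟩ = 1 := by
    show sg (bf 0 (eta q)) = 1
    rw [bf_zero_left, sg_zero]
  rw [h7, one_smul] at h6
  exact h6

/-- **Fixed vectors of `C(z)`.** -/
theorem fix_of_fix (h : Chart Q z eta pi) [FiniteDimensional ℂ V] (ρ : G →* (V →ₗ[ℂ] V))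
    (hlt : finrank ℂ V < 8292375) {y τ : G} (hyQ : y ∈ Q) (hy : eta y = f0) (h1 : τ * z * τ⁻¹ = y)
    (h2 : τ * y * τ⁻¹ = z * y) {x : V} (hx : ∀ c : G, c * z = z * c → ρ c x = x) {t : G} (ht : t * z * t⁻¹ = y) :
    ρ t x = x := by
  have app : ∀ (a b : G) (v : V), ρ (a * b) v = ρ a (ρ b v) := fun a b v => by
    rw [map_mul]; rfl
  have hinv : ∀ (a : G) (v : V), ρ a v = v → ρ a⁻¹ v = v := fun a v hv => by
    conv_lhs => rw [← hv]
    rw [← app, inv_mul_cancel, map_one]; rfl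
  -- the space `U`
  have hU : ∀ c : G, c * z = z * c → c * y = y * c → ρ c x = x := fun c hc _ => hx c hc
  have τz : τ * z = y * τ := by rw [← h1]; group
  have τy : τ * y = z * y * τ := by rw [← h2]; group
  -- `τ⁻¹ x` is in `U`
  have hU' : ∀ c : G, c * z = z * c → c * y = y * c → ρ c (ρ τ⁻¹ x) = ρ τ⁻¹ x := by
    intro c hc hc'
    have e1 : ρ c (ρ τ⁻¹ x) = ρ τ⁻¹ (ρ (τ * c * τ⁻¹) x) := by
      rw [← app, ← app]; congr 2; group
    rw [e1]
    congr 1
    apply hx
    -- `τ c τ⁻¹` commutes with `z = τ (z y) τ⁻¹`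
    have e2 : τ * (z * y) * τ⁻¹ = z := by
      calc τ * (z * y) * τ⁻¹ = (τ * z * τ⁻¹) * (τ * y * τ⁻¹) := by group
        _ = y * (z * y) := by rw [h1, h2]
        _ = z * (y * y) := by rw [← mul_assoc, h.large.comm_z y hyQ, mul_assoc]
        _ = z := by
          have : y * y = 1 := by
            rw [← h1]
            calc τ * z * τ⁻¹ * (τ * z * τ⁻¹) = τ * (z * z) * τ⁻¹ := by group
              _ = 1 := by rw [h.large.z_sq]; group
          rw [this, mul_one]
    have e5 : c * (z * y) = z * y * c := by rw [← mul_assoc, hc, mul_assoc, hc', ← mul_assoc]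
    calc τ * c * τ⁻¹ * z = τ * c * τ⁻¹ * (τ * (z * y) * τ⁻¹) := by rw [e2]
      _ = τ * (c * (z * y)) * τ⁻¹ := by group
      _ = τ * ((z * y) * c) * τ⁻¹ := by rw [e5]
      _ = τ * (z * y) * τ⁻¹ * (τ * c * τ⁻¹) := by group
      _ = z * (τ * c * τ⁻¹) := by rw [e2]
  have k1 := mem_Eg_zero h ρ hlt hyQ hy hU
  have k2 := mem_Eg_zero h ρ hlt hyQ hy hU'
  have k3 : ∀ q ∈ Q, ρ (τ * q * τ⁻¹) x = x := by
    intro q hq
    rw [app, app, k2 q hq, ← app, mul_inv_cancel, map_one]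
    rfl
  obtain ⟨r, hr, hr1, -⟩ := exists_conj_yz h hyQ (by rw [hy]; exact ne_zero_of_type (Or.inr rfl) isType_f0)
  -- the element of `⟨Q, Q^τ⟩` conjugating `z` to `y`
  have hr2 : r * z * r⁻¹ = z := by rw [h.large.comm_z r hr]; group
  have e6 : z * (y * z) = y * (z * z) := by rw [← mul_assoc, ← h.large.comm_z y hyQ, mul_assoc]
  have g1 : (τ * r * τ⁻¹) * z * (τ * r * τ⁻¹)⁻¹ = z * y := by
    have e2 : τ * (z * y) * τ⁻¹ = z := by
      calc τ * (z * y) * τ⁻¹ = (τ * z * τ⁻¹) * (τ * y * τ⁻¹) := by group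
        _ = y * (z * y) := by rw [h1, h2]
        _ = z * (y * y) := by rw [← mul_assoc, h.large.comm_z y hyQ, mul_assoc]
        _ = z := by
          have : y * y = 1 := by
            rw [← h1]
            calc τ * z * τ⁻¹ * (τ * z * τ⁻¹) = τ * (z * z) * τ⁻¹ := by group
              _ = 1 := by rw [h.large.z_sq]; group
          rw [this, mul_one]
    calc (τ * r * τ⁻¹) * z * (τ * r * τ⁻¹)⁻¹ = (τ * r * τ⁻¹) * (τ * (z * y) * τ⁻¹) * (τ * r * τ⁻¹)⁻¹ := by rw [e2]
      _ = τ * ((r * z * r⁻¹) * (r * y * r⁻¹)) * τ⁻¹ := by group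
      _ = τ * (z * (y * z)) * τ⁻¹ := by rw [hr1, hr2]
      _ = τ * (y * (z * z)) * τ⁻¹ := by rw [e6]
      _ = z * y := by rw [h.large.z_sq, mul_one, h2]
  have g2 : (r * (τ * r * τ⁻¹)) * z * (r * (τ * r * τ⁻¹))⁻¹ = y := by
    calc (r * (τ * r * τ⁻¹)) * z * (r * (τ * r * τ⁻¹))⁻¹ = r * ((τ * r * τ⁻¹) * z * (τ * r * τ⁻¹)⁻¹) * r⁻¹ := by group
      _ = (r * z * r⁻¹) * (r * y * r⁻¹) := by rw [g1]; group
      _ = z * (y * z) := by rw [hr1, hr2]
      _ = y * (z * z) := e6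
      _ = y := by rw [h.large.z_sq, mul_one]
  set g := r * (τ * r * τ⁻¹) with hg
  have hgx : ρ g x = x := by
    rw [hg, app, k3 r hr, k1 r hr]
  have e : t = g * (g⁻¹ * t) := by group
  rw [e, app, hx (g⁻¹ * t), hgx]
  have e3 : t * z = y * t := by rw [← ht]; group
  have e4 : g * z = y * g := by
    have := g2
    rw [mul_inv_eq_iff_eq_mul] at this
    exact this
  calc g⁻¹ * t * z = g⁻¹ * (t * z) := by group
    _ = g⁻¹ * y * t := by rw [e3]; group
    _ = z * (g⁻¹ * t) := by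
      have : g⁻¹ * y = z * g⁻¹ := by
        rw [inv_mul_eq_iff_eq_mul, ← mul_assoc, e4]; group
      rw [this, mul_assoc]

end Cfsg.Agent.H847.QFix
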