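import Cfsg.Agent.H847.QFix
import Cfsg.Agent.H847.Irr
import Cfsg.Agent.MonsterU.AmalSideOf

/-!
# The degree bound from a chart (helper847)

`bound` : `G` finite simple of the order of the Monster with a chart, generated by `C(z)` and an element conjugating `z`
to an element `≠ z` of `Q`; then every nontrivial complex representation has degree at least `196883`.
-/

set_option autoImplicit false

namespace Cfsg.Agent.H847.QMain

open Module Cfsg Cfsg.Spor
open Cfsg.Agent.H847.Avg Cfsg.Agent.H847.QTrace Cfsg.Agent.H847.QDeg Cfsg.Agent.H847.QFix Cfsg.Agent.H847.Irr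
open Cfsg.Agent.H847.Co1Small (sg sg_zero sg_one sg_add sg_sq zcases)
open Cfsg.Agent.MonsterU.Lam2
open Cfsg.Agent.MonsterU.Ch
open Cfsg.Agent.MonsterU.CoFrameL2 (f0)
open Cfsg.Agent.ConwayFacts.NormL2 (isType_f0 ne_zero_of_type ncard_two)

variable {G : Type*} [Group G] {Q : Subgroup G} {z : G} {eta : G → L2}
  {pi : Subgroup.centralizer ({z} : Set G) →* Co1}
variable {V : Type*} [AddCommGroup V] [Module ℂ V]

theorem mem_Eg0 {ρ : G →* (V →ₗ[ℂ] V)} {x : V} : x ∈ Eg Q eta ρ 0 ↔ ∀ q ∈ Q, ρ q x = x := by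
  rw [mem_Eg]
  refine forall₂_congr fun q _ => ?_
  rw [bf_zero_left, sg_zero, one_smul]

theorem app (ρ : G →* (V →ₗ[ℂ] V)) (a b : G) (v : V) : ρ (a * b) v = ρ a (ρ b v) := by
  rw [map_mul]; rfl

theorem inv_cent (h : Chart Q z eta pi) (ρ : G →* (V →ₗ[ℂ] V)) {c : G} (hc : c * z = z * c) :
    ∀ x ∈ Eg Q eta ρ 0, ρ c x ∈ Eg Q eta ρ 0 := by
  intro x hx
  rw [mem_Eg0] at hx ⊢
  intro q hq
  have hc' : c⁻¹ * z = z * c⁻¹ := by
    rw [inv_mul_eq_iff_eq_mul, ← mul_assoc, hc, mul_inv_cancel_right]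
  have h1 : c⁻¹ * q * c ∈ Q := by
    have := h.large.conj_mem c⁻¹ hc' q hq
    rwa [inv_inv] at this
  have h2 : ρ q (ρ c x) = ρ c (ρ (c⁻¹ * q * c) x) := by
    rw [← app, ← app]; congr 2; group
  rw [h2, hx _ h1]

theorem eq_of_pi (h : Chart Q z eta pi) (ρ : G →* (V →ₗ[ℂ] V)) {c d : Subgroup.centralizer ({z} : Set G)}
    (hcd : pi c = pi d) {x : V} (hx : x ∈ Eg Q eta ρ 0) : ρ (c : G) x = ρ (d : G) x := by
  have h1 : pi (d⁻¹ * c) = 1 := by rw [map_mul, map_inv, hcd, inv_mul_cancel]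
  have h2 : ((d⁻¹ * c : Subgroup.centralizer ({z} : Set G)) : G) ∈ Q := (h.pi_eq_one _).1 h1
  have h3 := mem_Eg0.1 hx _ h2
  have h4 : (c : G) = d * ((d⁻¹ * c : Subgroup.centralizer ({z} : Set G)) : G) := by
    show (c : G) = d * ((d : G)⁻¹ * c)
    group
  rw [h4, app, h3]

/-- the section -/
noncomputable def sec (h : Chart Q z eta pi) (g : Co1) : Subgroup.centralizer ({z} : Set G) :=
  Function.surjInv h.pi_surj g

theorem pi_sec (h : Chart Q z eta pi) (g : Co1) : pi (sec h g) = g := Function.surjInv_eq h.pi_surj g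

/-- the representation of `Co1` on the fixed space of `Q` -/
noncomputable def R (h : Chart Q z eta pi) (ρ : G →* (V →ₗ[ℂ] V)) : Co1 →* (Eg Q eta ρ 0 →ₗ[ℂ] Eg Q eta ρ 0) where
  toFun g := (ρ (sec h g : G)).restrict (inv_cent h ρ (Subgroup.mem_centralizer_singleton_iff.1 (sec h g).2))
  map_one' := by
    ext x
    rw [LinearMap.coe_restrict_apply, eq_of_pi h ρ (d := 1) (by rw [pi_sec, map_one]) x.2]
    show ρ 1 (x : V) = x
    rw [map_one]; rfl
  map_mul' a b := by
    ext x
    rw [LinearMap.coe_restrict_apply, eq_of_pi h ρ (d := sec h a * sec h b) (by rw [pi_sec, map_mul, pi_sec, pi_sec]) x.2]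
    exact app ρ _ _ _

theorem R_pi (h : Chart Q z eta pi) (ρ : G →* (V →ₗ[ℂ] V)) (c : Subgroup.centralizer ({z} : Set G))
    (x : Eg Q eta ρ 0) : ((R h ρ (pi c) x : Eg Q eta ρ 0) : V) = ρ (c : G) x :=
  eq_of_pi h ρ (pi_sec h (pi c)) x.2

/-- the order of the Monster -/
abbrev ordM : ℕ := 2 ^ 46 * 3 ^ 20 * 5 ^ 9 * 7 ^ 6 * 11 ^ 2 * 13 ^ 3 * 17 * 19 * 23 * 29 * 31 * 41 * 47 * 59 * 71

theorem not_dvd0 : ¬ 196584 ∣ ordM := by decide +kernel

theorem not_dvd : ∀ c < 299, 276 ≤ c → ¬ (c ∣ 4157776806543360000 ∧ c + 196584 ∣ ordM) := by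
  decide +kernel

/-- **The degree bound for irreducible representations.** -/
theorem bound_irr [Finite G] (h : Chart Q z eta pi) (hcard : Nat.card G = ordM) {t : G} (ht : t * z * t⁻¹ ∈ Q)
    (ht' : t * z * t⁻¹ ≠ z)
    (hgen : Subgroup.closure ((Subgroup.centralizer ({z} : Set G) : Set G) ∪ {t}) = ⊤)
    [FiniteDimensional ℂ V] (ρ : G →* (V →ₗ[ℂ] V)) (hz : ρ z ≠ 1) (hirr : ∀ U, Inv ρ U → U = ⊥ ∨ U = ⊤) :
    196883 ≤ finrank ℂ V := by
  classical
  by_contra hlt
  have : Fintype Q := Fintype.ofFinite Q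
  obtain ⟨s, τ, h1, h2, h3⟩ := Cfsg.Agent.MonsterU.AmalSideOf.exists_frame h ht ht' ⟨t, rfl⟩
  set y := t * z * t⁻¹ with hy
  have h' := h.smul s
  obtain ⟨x2, hx2⟩ : {x : L2 | IsType 2 x}.Nonempty := Set.nonempty_of_ncard_ne_zero (by rw [ncard_two]; norm_num)
  have hdeg := degree_eq h' ρ (by omega) ht h3 ⟨t, rfl⟩ hx2
  set m2 := m Q (fun x => s • eta x) ρ x2 with hm2
  have hc : m Q (fun x => s • eta x) ρ 0 = finrank ℂ (Eg Q (fun x => s • eta x) ρ 0) := rfl
  -- `m2 = 1`
  have hm : m2 = 1 := by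
    rcases Nat.eq_zero_or_pos m2 with h0 | h0
    · exfalso
      rw [h0, mul_zero, add_zero, hc] at hdeg
      have h4 := Submodule.eq_top_of_finrank_eq hdeg.symm
      apply hz
      ext x
      have hx : x ∈ Eg Q (fun x => s • eta x) ρ 0 := by rw [h4]; trivial
      exact mem_Eg0.1 hx z h.large.z_mem
    · omega
  rw [hm, mul_one] at hdeg
  -- the degree divides the order
  have hex : ∃ x : V, x ≠ 0 := by
    by_contra hn
    push Not at hn
    apply hz
    ext x
    rw [hn x, map_zero, map_zero]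
  have hI := irr_of ρ hex hirr
  have hdvd : finrank ℂ V ∣ Nat.card G :=
    Cfsg.Agent.Characters.DegreeBounds.finrank_dvd_card (ρ : Representation ℂ G V)
  rw [hcard] at hdvd
  -- no fixed vectors of the centraliser
  have hfix : ∀ x : V, (∀ c : G, c * z = z * c → ρ c x = x) → x = 0 := by
    intro x hx
    by_contra hx0
    have hall : ∀ g : G, ρ g x = x := by
      have hle : Subgroup.closure ((Subgroup.centralizer ({z} : Set G) : Set G) ∪ {t}) ≤
          { carrier := {g : G | ρ g x = x}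
            one_mem' := by show ρ 1 x = x; rw [map_one]; rfl
            mul_mem' := by
              intro a b ha hb
              show ρ (a * b) x = x
              rw [app, show ρ b x = x from hb, show ρ a x = x from ha]
            inv_mem' := by
              intro a ha
              show ρ a⁻¹ x = x
              conv_lhs => rw [← show ρ a x = x from ha]
              rw [← app, inv_mul_cancel, map_one]; rfl : Subgroup G } := by
        rw [Subgroup.closure_le]
        rintro g (hg | hg)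
        · exact hx g (Subgroup.mem_centralizer_singleton_iff.1 hg)
        · rw [Set.mem_singleton_iff] at hg
          subst hg
          exact fix_of_fix h' ρ (by omega) ht h3 h1 h2 hx hy.symm
      rw [hgen] at hle
      intro g
      exact hle (Subgroup.mem_top g)
    rcases hirr (Submodule.span ℂ {x}) (by
      intro g v hv
      obtain ⟨a, rfl⟩ := Submodule.mem_span_singleton.1 hv
      rw [map_smul, hall g]
      exact hv) with h4 | h4
    · exact hx0 (Submodule.span_singleton_eq_bot.1 h4)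
    · apply hz
      ext v
      have hv : v ∈ Submodule.span ℂ {x} := by rw [h4]; trivial
      obtain ⟨a, rfl⟩ := Submodule.mem_span_singleton.1 hv
      rw [map_smul, hall z]; rfl
  -- the representation of `Co1`
  have hfixR : ∀ x : Eg Q (fun x => s • eta x) ρ 0, (∀ g, R h' ρ g x = x) → x = 0 := by
    intro x hx
    apply Subtype.ext
    apply hfix
    intro c hc
    have h4 := R_pi h' ρ ⟨c, Subgroup.mem_centralizer_singleton_iff.2 hc⟩ x
    rw [hx] at h4
    exact h4.symm
  have hcpos : 0 < finrank ℂ (Eg Q (fun x => s • eta x) ρ 0) := by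
    rcases Nat.eq_zero_or_pos (finrank ℂ (Eg Q (fun x => s • eta x) ρ 0)) with h0 | h0
    · exfalso
      rw [hc, h0, zero_add] at hdeg
      rw [hdeg] at hdvd
      exact not_dvd0 hdvd
    · exact h0
  have hnt : Nontrivial (Eg Q (fun x => s • eta x) ρ 0) := Module.nontrivial_of_finrank_pos hcpos
  obtain ⟨x0, hx0⟩ := exists_ne (0 : Eg Q (fun x => s • eta x) ρ 0)
  have h276 : 276 ≤ finrank ℂ (Eg Q (fun x => s • eta x) ρ 0) := by
    by_contra hn
    apply hx0
    apply hfixR
    intro g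
    rw [Co1Small.trivial_of_lt (R h' ρ) (by omega) g]
    rfl
  have hIR := irr_of (R h' ρ) ⟨x0, hx0⟩ (irr_co1 (R h' ρ) (by omega) hfixR)
  have hdvdR : finrank ℂ (Eg Q (fun x => s • eta x) ρ 0) ∣ Nat.card Co1 :=
    Cfsg.Agent.Characters.DegreeBounds.finrank_dvd_card (R h' ρ : Representation ℂ Co1 _)
  rw [Cfsg.Agent.MonsterU.CoFrameF.card_Co1] at hdvdR
  rw [hc] at hdeg
  refine not_dvd _ (by omega) h276 ⟨hdvdR, ?_⟩
  rw [← hdeg]
  exact hdvd

/-- **The degree bound.** -/
theorem bound [Finite G] [IsSimpleGroup G] (h : Chart Q z eta pi) (hcard : Nat.card G = ordM) {t : G}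
    (ht : t * z * t⁻¹ ∈ Q) (ht' : t * z * t⁻¹ ≠ z)
    (hgen : Subgroup.closure ((Subgroup.centralizer ({z} : Set G) : Set G) ∪ {t}) = ⊤)
    [FiniteDimensional ℂ V] (ρ : G →* (V →ₗ[ℂ] V)) (hρ : ∃ g, ρ g ≠ 1) : 196883 ≤ finrank ℂ V := by
  obtain ⟨U, hU, ⟨g, hg⟩, hirr⟩ := exists_irr ρ hρ
  refine le_trans (bound_irr h hcard ht ht' hgen (res ρ hU) ?_ hirr) (Submodule.finrank_le U)
  intro hz
  rcases (inferInstance : IsSimpleGroup G).eq_bot_or_eq_top_of_normal (res ρ hU).ker inferInstance with h5 | h5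
  · have h6 : z ∈ (res ρ hU).ker := hz
    rw [h5, Subgroup.mem_bot] at h6
    exact h.large.z_ne h6
  · have h6 : g ∈ (res ρ hU).ker := by rw [h5]; trivial
    exact hg h6

end Cfsg.Agent.H847.QMain
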