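import Cfsg.Agent.H847.Avg
import Cfsg.Agent.H847.OddCount
import Cfsg.Agent.MonsterU.Chart

/-!
# The restriction of a representation to `2^(1+24)` (helper847)

`h : Chart Q z eta pi`, `ρ` a complex representation, `m v` the dimension of the space on which `q ∈ Q` acts by
`(-1)^(v, eta q)`.

* `sum_m` : `∑ (-1)^(v, eta s) m v = (trace s + trace (s z)) / 2`;
* `m_smul` : `m` is invariant under `Co1`;
* `degree_eq` : if the degree is less than `8292375` and a conjugate `y ≠ z` of `z` in `Q` is over the frame class then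
  the degree is `m 0 + 196584 m₂`.
-/

set_option autoImplicit false

namespace Cfsg.Agent.H847.QTrace

open Module Cfsg Cfsg.Spor
open Cfsg.Agent.H847.Avg
open Cfsg.Agent.H847.Co1Small (sg sg_zero sg_one sg_add sg_sq zcases)
open Cfsg.Agent.MonsterU.Lam2
open Cfsg.Agent.MonsterU.Ch
open Cfsg.Agent.MonsterU.CoFrameL2 (f0)
open Cfsg.Agent.ConwayFacts.NormL2 (ncard_two ncard_three ncard_four isType_f0 ne_zero_of_type)

/-- a local instance -/
noncomputable local instance fintypeL2 : Fintype L2 := Fintype.ofFinite _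

theorem card_eq : (Fintype.card L2 : ℂ) = 2 ^ 24 := by
  rw [← Nat.card_eq_fintype_card, card_L2]
  norm_num

theorem sum_sg_zero : ∑ v : L2, sg (bf v 0) = 2 ^ 24 := by
  have : ∀ v : L2, sg (bf v 0) = 1 := fun v => by rw [bf_zero_right, sg_zero]
  rw [Finset.sum_congr rfl fun v _ => this v, Finset.sum_const, Finset.card_univ, nsmul_eq_mul, mul_one, card_eq]

theorem exists_bf {x : L2} (hx : x ≠ 0) : ∃ y, bf y x = 1 := by
  by_contra hn
  push Not at hn
  apply hx
  apply bf_nondeg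
  intro y
  rw [bf_comm]
  rcases zcases (bf y x) with h | h
  · exact h
  · exact absurd h (hn y)

theorem sum_sg_ne {x : L2} (hx : x ≠ 0) : ∑ v : L2, sg (bf v x) = 0 := by
  obtain ⟨y, hy⟩ := exists_bf hx
  have h1 : ∑ v : L2, sg (bf v x) = ∑ v : L2, -sg (bf v x) := by
    refine Fintype.sum_equiv (Equiv.addRight y) _ _ fun v => ?_
    rw [Equiv.coe_addRight, bf_add_left, sg_add, hy, sg_one]
    ring
  rw [Finset.sum_neg_distrib] at h1
  have h2 : (2 : ℂ) * ∑ v : L2, sg (bf v x) = 0 := by linear_combination h1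
  exact (mul_eq_zero.1 h2).resolve_left two_ne_zero

variable {G : Type*} [Group G] {Q : Subgroup G} {z : G} {eta : G → L2}
  {pi : Subgroup.centralizer ({z} : Set G) →* Co1}
variable {V : Type*} [AddCommGroup V] [Module ℂ V]

/-- the restriction to `Q` -/
noncomputable def rQ (Q : Subgroup G) (ρ : G →* (V →ₗ[ℂ] V)) : Q →* (V →ₗ[ℂ] V) := ρ.comp Q.subtype

theorem rQ_apply (ρ : G →* (V →ₗ[ℂ] V)) (q : Q) : rQ Q ρ q = ρ q := rfl

/-- the character of `Q` of the class `v` -/
noncomputable def lam (Q : Subgroup G) (eta : G → L2) (v : L2) : Q → ℂ := fun q => sg (bf v (eta q))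

theorem lin_lam (h : Chart Q z eta pi) (v : L2) : Lin (lam Q eta v) := by
  refine ⟨fun a b => ?_, fun a => sg_sq _⟩
  unfold lam
  rw [← sg_add, ← bf_add_right, ← h.eta_mul a a.2 b b.2]
  rfl

/-- the eigenspaces -/
noncomputable def Eg (Q : Subgroup G) (eta : G → L2) (ρ : G →* (V →ₗ[ℂ] V)) (v : L2) : Submodule ℂ V :=
  eig (rQ Q ρ) (lam Q eta v)

theorem mem_Eg {ρ : G →* (V →ₗ[ℂ] V)} {v : L2} {x : V} :
    x ∈ Eg Q eta ρ v ↔ ∀ q ∈ Q, ρ q x = sg (bf v (eta q)) • x :=
  ⟨fun h q hq => h ⟨q, hq⟩, fun h q => h q q.2⟩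

/-- the dimensions of the eigenspaces -/
noncomputable def m (Q : Subgroup G) (eta : G → L2) (ρ : G →* (V →ₗ[ℂ] V)) (v : L2) : ℕ :=
  finrank ℂ (Eg Q eta ρ v)

variable [Fintype Q]

theorem card_Q (h : Chart Q z eta pi) : (Fintype.card Q : ℂ) = 2 ^ 25 := by
  rw [← Nat.card_eq_fintype_card, h.card_Q]
  norm_num

/-- the sum of the projections -/
theorem sum_avg (h : Chart Q z eta pi) (ρ : G →* (V →ₗ[ℂ] V)) {s : G} (hs : s ∈ Q) :
    ∑ v : L2, sg (bf v (eta s)) • avg (rQ Q ρ) (lam Q eta v) = (1 / 2 : ℂ) • (ρ s + ρ (s * z)) := by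
  classical
  have h1 : ∀ v : L2, sg (bf v (eta s)) • avg (rQ Q ρ) (lam Q eta v) =
      ∑ q : Q, ((Fintype.card Q : ℂ)⁻¹ * sg (bf v (eta s + eta q))) • ρ q := by
    intro v
    unfold avg
    rw [smul_comm, Finset.smul_sum, Finset.smul_sum]
    refine Finset.sum_congr rfl fun q _ => ?_
    rw [smul_smul, smul_smul, mul_assoc, bf_add_right, sg_add]
    rfl
  rw [Finset.sum_congr rfl fun v _ => h1 v, Finset.sum_comm]
  have hz : z ∈ Q := h.large.z_mem
  let a : Q := ⟨s, hs⟩
  let b : Q := ⟨s * z, Q.mul_mem hs hz⟩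
  have hab : a ≠ b := by
    intro e
    have e1 : s = s * z := congrArg Subtype.val e
    exact h.large.z_ne (mul_eq_left.1 e1.symm)
  have h2 : ∀ q : Q, ∑ v : L2, ((Fintype.card Q : ℂ)⁻¹ * sg (bf v (eta s + eta q))) • ρ (q : G) =
      if q ∈ ({a, b} : Finset Q) then (1 / 2 : ℂ) • ρ (q : G) else 0 := by
    intro q
    rw [← Finset.sum_smul, ← Finset.mul_sum]
    have h3 : q ∈ ({a, b} : Finset Q) ↔ eta s + eta q = 0 := by
      rw [Finset.mem_insert, Finset.mem_singleton]
      have h4 := h.eta_eq q.2 hs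
      constructor
      · intro h5
        have h6 : eta q = eta s := by
          rw [h4]
          rcases h5 with rfl | rfl
          · exact Or.inl rfl
          · exact Or.inr rfl
        rw [h6, add_self]
      · intro h5
        have h6 : eta q = eta s := (eq_of_add_eq_zero h5).symm
        rw [h4] at h6
        rcases h6 with h6 | h6
        · exact Or.inl (Subtype.ext h6)
        · exact Or.inr (Subtype.ext h6)
    by_cases hq : eta s + eta q = 0
    · rw [if_pos (h3.2 hq), hq, sum_sg_zero, card_Q h]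
      congr 1
      norm_num
    · rw [if_neg (fun h5 => hq (h3.1 h5)), sum_sg_ne hq, mul_zero, zero_smul]
  rw [Finset.sum_congr rfl fun q _ => h2 q, Finset.sum_ite_mem, Finset.univ_inter, Finset.sum_pair hab, smul_add]

/-- **The sum of the multiplicities with signs.** -/
theorem sum_m [FiniteDimensional ℂ V] (h : Chart Q z eta pi) (ρ : G →* (V →ₗ[ℂ] V)) {s : G} (hs : s ∈ Q) :
    ∑ v : L2, sg (bf v (eta s)) * (m Q eta ρ v : ℂ) =
      (1 / 2 : ℂ) * (LinearMap.trace ℂ V (ρ s) + LinearMap.trace ℂ V (ρ (s * z))) := by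
  have h1 := congrArg (LinearMap.trace ℂ V) (sum_avg h ρ hs)
  rw [map_smul, map_add, smul_eq_mul, map_sum] at h1
  rw [← h1]
  refine Finset.sum_congr rfl fun v _ => ?_
  rw [map_smul, smul_eq_mul, trace_avg (rQ Q ρ) (lin_lam h v)]
  rfl

theorem trace_conj (ρ : G →* (V →ₗ[ℂ] V)) (g u : G) :
    LinearMap.trace ℂ V (ρ (g * u * g⁻¹)) = LinearMap.trace ℂ V (ρ u) := by
  rw [map_mul ρ (g * u) g⁻¹, LinearMap.trace_mul_comm, ← map_mul, ← mul_assoc, inv_mul_cancel, one_mul]

/-- conjugation by an element of the centraliser -/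
def conjQ (h : Chart Q z eta pi) (c : Subgroup.centralizer ({z} : Set G)) : Q ≃ Q where
  toFun q := ⟨c * q * (c : G)⁻¹, h.large.conj_mem c (Subgroup.mem_centralizer_singleton_iff.1 c.2) q q.2⟩
  invFun q := ⟨(c : G)⁻¹ * q * c, by
    have := h.large.conj_mem (c : G)⁻¹ (Subgroup.mem_centralizer_singleton_iff.1 (c⁻¹).2) q q.2
    rwa [inv_inv] at this⟩
  left_inv q := by
    apply Subtype.ext
    show (c : G)⁻¹ * (c * q * (c : G)⁻¹) * c = q
    group
  right_inv q := by
    apply Subtype.ext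
    show (c : G) * ((c : G)⁻¹ * q * c) * (c : G)⁻¹ = q
    group

theorem m_smul [FiniteDimensional ℂ V] (h : Chart Q z eta pi) (ρ : G →* (V →ₗ[ℂ] V)) (g : Co1) (v : L2) :
    m Q eta ρ (g • v) = m Q eta ρ v := by
  obtain ⟨c, rfl⟩ := h.pi_surj g
  have h1 := trace_avg (rQ Q ρ) (lin_lam h v)
  have h2 := trace_avg (rQ Q ρ) (lin_lam h (pi c • v))
  rw [trace_avg_eq_sum] at h1 h2
  have h3 : ∑ q : Q, lam Q eta v q * LinearMap.trace ℂ V (rQ Q ρ q) =
      ∑ q : Q, lam Q eta (pi c • v) q * LinearMap.trace ℂ V (rQ Q ρ q) := by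
    refine Fintype.sum_equiv (conjQ h c) _ _ fun q => ?_
    have h4 : rQ Q ρ (conjQ h c q) = ρ ((c : G) * q * (c : G)⁻¹) := rfl
    have h5 : lam Q eta (pi c • v) (conjQ h c q) = sg (bf (pi c • v) (eta ((c : G) * q * (c : G)⁻¹))) := rfl
    rw [h4, trace_conj, h5, h.eta_conj c q q.2, bf_smul1]
    rfl
  rw [h3, h2] at h1
  exact_mod_cast h1

theorem m_type [FiniteDimensional ℂ V] (h : Chart Q z eta pi) (ρ : G →* (V →ₗ[ℂ] V)) {n : ℤ} (hn : n = 2 ∨ n = 3 ∨ n = 4)
    {x y : L2} (hx : IsType n x) (hy : IsType n y) : m Q eta ρ x = m Q eta ρ y := by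
  obtain ⟨g, rfl⟩ := IsType.trans hn hx hy
  have := m_smul h ρ (QuotientGroup.mk g) x
  rw [mk_smul] at this
  exact this.symm

/-- the sum of the multiplicities is at most the degree -/
theorem sum_m_le [FiniteDimensional ℂ V] (h : Chart Q z eta pi) (ρ : G →* (V →ₗ[ℂ] V)) :
    ∑ v : L2, m Q eta ρ v ≤ finrank ℂ V := by
  have h1 := sum_m h ρ Q.one_mem
  have hone : ∀ v : L2, sg (bf v (eta 1)) = 1 := fun v => by rw [h.eta_one, bf_zero_right, sg_zero]
  rw [Finset.sum_congr rfl fun v _ => by rw [hone v, one_mul], one_mul, map_one] at h1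
  -- the projection onto the fixed space of `z`
  let F : Submodule ℂ V := LinearMap.ker (ρ z - 1)
  have hF : ∀ x, x ∈ F ↔ ρ z x = x := by
    intro x
    rw [LinearMap.mem_ker, LinearMap.sub_apply, sub_eq_zero]
    rfl
  have hP : LinearMap.IsProj F ((1 / 2 : ℂ) • ((1 : V →ₗ[ℂ] V) + ρ z)) := by
    refine ⟨fun x => ?_, fun x hx => ?_⟩
    · rw [hF, LinearMap.smul_apply, map_smul, LinearMap.add_apply, map_add]
      congr 1
      rw [Module.End.one_apply, ← Module.End.mul_apply, ← map_mul, h.large.z_sq, map_one, Module.End.one_apply, add_comm]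
    · rw [hF] at hx
      rw [LinearMap.smul_apply, LinearMap.add_apply, hx, Module.End.one_apply, ← two_smul ℂ x, smul_smul]
      norm_num
  have h2 := hP.trace
  rw [map_smul, map_add, smul_eq_mul] at h2
  rw [h2] at h1
  have h3 : ∑ v : L2, m Q eta ρ v = finrank ℂ F := by exact_mod_cast h1
  rw [h3]
  exact Submodule.finrank_le F

end Cfsg.Agent.H847.QTrace
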